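import Cfsg.Agent.Lib.DegreeGraphSmall.Sections
import Cfsg.Agent.Lib.PRegularClass
import Cfsg.Agent.Lib.Glauberman.Solvable

/-!
# Solvable groups with a prime of multiplicity one that has little room to act
-/

namespace CfsgLib.DegreeGraphSmall

open Cfsg

set_option autoImplicit false
set_option linter.unusedVariables false
set_option linter.style.haveILetI false
set_option linter.unusedSectionVars false

universe u

variable {G : Type u} [Group G] [Finite G]

/-- A subgroup whose order is prime to the index of the normal subgroup `A` lies in it. -/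
theorem le_of_coprime_normal {A H : Subgroup G} [A.Normal] (h : (Nat.card H).Coprime A.index) :
    H ≤ A := fun x hx => by
  rw [← QuotientGroup.eq_one_iff, ← orderOf_eq_one_iff]
  refine Nat.dvd_one.mp (h ▸ Nat.dvd_gcd ?_ (orderOf_dvd_natCard _))
  exact (orderOf_map_dvd (QuotientGroup.mk' A) x).trans (Subgroup.orderOf_dvd_natCard H hx)

/-- A normal subgroup of order prime to its index is characteristic. -/
theorem characteristic_of_coprime {A : Subgroup G} [A.Normal]
    (h : (Nat.card A).Coprime A.index) : A.Characteristic := by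
  rw [Subgroup.characteristic_iff_map_le]
  intro φ
  refine le_of_coprime_normal ?_
  rwa [Subgroup.card_map_of_injective φ.injective]

/-- A normal subgroup of full prime power order inside a normal subgroup is normal. -/
theorem normal_map_subtype {C : Subgroup G} [C.Normal] {A : Subgroup C} [A.Normal]
    (h : (Nat.card A).Coprime A.index) : (A.map C.subtype).Normal := by
  haveI := characteristic_of_coprime h
  infer_instance

theorem coprime_index {n p c : ℕ} [Fact p.Prime] {A : Subgroup G} (hn : Nat.card G = n)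
    (hA : Nat.card A = p ^ c) (hmax : ¬ p ^ (c + 1) ∣ n) : (Nat.card A).Coprime A.index := by
  rw [hA]
  refine (((Fact.out : p.Prime).coprime_iff_not_dvd).2 fun h => hmax ?_).pow_left c
  rw [← hn, ← A.card_mul_index, hA, pow_succ]
  exact mul_dvd_mul_left _ h

/-- The preimage of a normal Sylow subgroup modulo a central subgroup of coprime order. -/
theorem lift_central {N : Subgroup G} [N.Normal] (hN : N ≤ Subgroup.center G) {p c : ℕ} [Fact p.Prime]
    (hmax : ¬ p ^ (c + 1) ∣ Nat.card G) (hpN : ¬ p ∣ Nat.card N) {A : Subgroup (G ⧸ N)} [A.Normal]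
    (hA : Nat.card A = p ^ c) :
    ∃ B : Subgroup G, B.Normal ∧ Nat.card B = p ^ c ∧
      ((∀ a ∈ A, ∀ b ∈ A, a * b = b * a) → ∀ a ∈ B, ∀ b ∈ B, a * b = b * a) := by
  classical
  set M := A.comap (QuotientGroup.mk' N) with hM
  haveI : M.Normal := inferInstance
  have hNM : N ≤ M := fun x hx => by
    rw [hM, Subgroup.mem_comap, QuotientGroup.mk'_apply, (QuotientGroup.eq_one_iff x).2 hx]
    exact one_mem A
  have hcardM : Nat.card M = p ^ c * Nat.card N := by
    have h1 := M.card_mul_index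
    rw [hM, Subgroup.index_comap_of_surjective A (QuotientGroup.mk'_surjective N), ← hM] at h1
    have h2 := A.card_mul_index
    rw [hA] at h2
    have h3 := Subgroup.card_eq_card_quotient_mul_card_subgroup N
    have h4 : Nat.card M * A.index = p ^ c * Nat.card N * A.index := by
      rw [h1, h3, ← h2]; ring
    exact Nat.eq_of_mul_eq_mul_right (Nat.pos_of_ne_zero Subgroup.index_ne_zero_of_finite) h4
  obtain ⟨B₀, hB₀⟩ := Sylow.exists_subgroup_card_pow_prime (G := M) p (n := c)
    (by rw [hcardM]; exact dvd_mul_right _ _)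
  -- `M` is generated by `B₀` and central elements
  have hcop : (p ^ c).Coprime (Nat.card N) :=
    (((Fact.out : p.Prime).coprime_iff_not_dvd).2 hpN).pow_left c
  have hdisj : ∀ b : M, b ∈ B₀ → (b : G) ∈ N → b = 1 := by
    intro b hb hbN
    refine Subtype.ext (orderOf_eq_one_iff.mp (Nat.dvd_one.mp (hcop ▸ Nat.dvd_gcd ?_ ?_)))
    · rw [Subgroup.orderOf_coe, ← hB₀]; exact Subgroup.orderOf_dvd_natCard B₀ hb
    · exact Subgroup.orderOf_dvd_natCard N hbN
  have hgen : ∀ m : M, ∃ b ∈ B₀, ∃ z ∈ N, (m : G) = b * z := by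
    let f : B₀ × N → M := fun w => (w.1 : M) * ⟨(w.2 : G), hNM w.2.2⟩
    have hf : Function.Injective f := by
      intro w w' e
      have e' : ((w.1 : M) : G) * (w.2 : G) = ((w'.1 : M) : G) * (w'.2 : G) := congrArg Subtype.val e
      have h1 : ((w'.1⁻¹ * w.1 : B₀) : M) = 1 := hdisj _ (w'.1⁻¹ * w.1).2 (by
        have : (((w'.1⁻¹ * w.1 : B₀) : M) : G) = (w'.2 : G) * (w.2 : G)⁻¹ := by
          show (((w'.1 : M) : G))⁻¹ * ((w.1 : M) : G) = _
          rw [eq_mul_inv_iff_mul_eq, mul_assoc, e', inv_mul_cancel_left]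
        rw [this]
        exact N.mul_mem w'.2.2 (N.inv_mem w.2.2))
      have h2 : w.1 = w'.1 := inv_mul_eq_one.1 (Subtype.ext h1) |>.symm
      rw [h2] at e'
      exact Prod.ext h2 (Subtype.ext (mul_left_cancel e'))
    have hsurj : Function.Surjective f := by
      refine ((Nat.bijective_iff_injective_and_card f).2 ⟨hf, ?_⟩).2
      rw [Nat.card_prod, hB₀, hcardM]
    intro m
    obtain ⟨⟨b, z⟩, e⟩ := hsurj m
    exact ⟨b, b.2, z, z.2, (congrArg Subtype.val e).symm⟩
  haveI hB₀n : B₀.Normal := by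
    refine ⟨fun b hb m => ?_⟩
    obtain ⟨b', hb', z, hz, e⟩ := hgen m
    have : m * b * m⁻¹ = b' * b * b'⁻¹ := Subtype.ext (by
      show (m : G) * (b : G) * (m : G)⁻¹ = (b' : G) * (b : G) * (b' : G)⁻¹
      rw [e, mul_inv_rev, show (b' : G) * z * (b : G) * (z⁻¹ * (b' : G)⁻¹) =
        (b' : G) * (z * (b : G)) * z⁻¹ * (b' : G)⁻¹ by group, ← Subgroup.mem_center_iff.1 (hN hz) (b : G)]
      group)
    rw [this]
    exact B₀.mul_mem (B₀.mul_mem hb' hb) (B₀.inv_mem hb')
  have hidx : B₀.index = Nat.card N := by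
    have := B₀.card_mul_index
    rw [hB₀, hcardM] at this
    exact Nat.eq_of_mul_eq_mul_left (pow_pos (Fact.out : p.Prime).pos c) this
  refine ⟨B₀.map M.subtype, normal_map_subtype (by rw [hB₀, hidx]; exact hcop),
    by rw [Subgroup.card_subtype]; exact hB₀, ?_⟩
  rintro hab _ ⟨a, ha, rfl⟩ _ ⟨b, hb, rfl⟩
  have hc : ((a * b * (b * a)⁻¹ : M) : G) ∈ N := by
    have h1 := hab _ (show ((a : G) : G ⧸ N) ∈ A from a.2) _ (show ((b : G) : G ⧸ N) ∈ A from b.2)
    rw [← QuotientGroup.eq_one_iff]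
    simp only [Subgroup.coe_mul, Subgroup.coe_inv, QuotientGroup.mk_mul, QuotientGroup.mk_inv, h1,
      mul_inv_cancel]
  exact congrArg Subtype.val
    (mul_inv_eq_one.1 (hdisj _ (B₀.mul_mem (B₀.mul_mem ha hb) (B₀.inv_mem (B₀.mul_mem hb ha))) hc))

theorem dichotomy_aux {r q b : ℕ} [Fact r.Prime] : ∀ (n : ℕ) (X : Type u) [Group X] [Finite X],
    Nat.card X = n → Group.IsSolvable X → r ∣ n → ¬ r ^ 2 ∣ n →
    (∀ q' i : ℕ, q'.Prime → q' ≠ r → 1 ≤ i → q' ^ i ∣ n → r ∣ q' ^ i - 1 → q' = q ∧ i = b) →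
    ¬ q ^ (b + 1) ∣ n →
    (∃ A : Subgroup X, A.Normal ∧ Nat.card A = r) ∨
      (q.Prime ∧ ∃ A : Subgroup X, A.Normal ∧ (∀ a ∈ A, ∀ b ∈ A, a * b = b * a) ∧ Nat.card A = q ^ b) := by
  intro n
  induction n using Nat.strong_induction_on with
  | _ n ih =>
    intro X _ _ hn hsol hr hr2 hbad hmax
    classical
    have hrp : r.Prime := Fact.out
    haveI : Nontrivial X := by
      rw [← Finite.one_lt_card_iff_nontrivial, hn]
      exact lt_of_lt_of_le hrp.one_lt (Nat.le_of_dvd (hn ▸ Nat.card_pos) hr)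
    haveI := hsol
    obtain ⟨p, Q₀, hp, hQ₀n, hQ₀, hQ₀p⟩ := Glauberman.exists_normal_pgroup X
    haveI : Fact p.Prime := ⟨hp⟩
    obtain ⟨N, hNn, hNab, hNp, hN0⟩ := exists_abelian_normal_pSubgroup (G := X) (p := p) (fun h => hQ₀
      (eq_bot_iff.2 (h ▸ CfsgLib.le_pCore hQ₀p)))
    haveI := hNn
    obtain ⟨c, hc⟩ := hNp.exists_card_eq
    have hcdvd : p ^ c ∣ n := hn ▸ hc ▸ Subgroup.card_subgroup_dvd_card N
    have hc1 : 1 ≤ c := Nat.one_le_iff_ne_zero.2 fun h => hN0 (Subgroup.card_eq_one.1 (by rw [hc, h, pow_zero]))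
    by_cases hpr : p = r
    · subst hpr
      refine Or.inl ⟨N, hNn, ?_⟩
      have : c = 1 := le_antisymm (Nat.le_of_lt_succ (Nat.lt_of_not_le fun h =>
        hr2 ((pow_dvd_pow p h).trans hcdvd))) hc1
      rw [hc, this, pow_one]
    by_cases hfull : p = q ∧ b ≤ c
    · obtain ⟨rfl, hbc⟩ := hfull
      have : c = b := le_antisymm (Nat.le_of_lt_succ (Nat.lt_of_not_le fun h =>
        hmax ((pow_dvd_pow p h).trans hcdvd))) hbc
      exact Or.inr ⟨hp, N, hNn, fun a ha b hb => congrArg Subtype.val (hNab.is_comm.comm ⟨a, ha⟩ ⟨b, hb⟩),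
        by rw [hc, this]⟩
    have hrN : ¬ r ∣ Nat.card N := by
      rw [hc]
      exact fun h => hpr ((Nat.prime_dvd_prime_iff_eq hrp hp).1 (hrp.dvd_of_dvd_pow h)).symm
    -- every element of order `r` centralises `N`
    have hfix : ∀ x : X, orderOf x = r → x ∈ Subgroup.centralizer (N : Set X) := by
      intro x hx
      refine Subgroup.mem_centralizer_iff.2 fun a ha => ?_
      refine Subgroup.mem_centralizer_singleton_iff.1 (le_centralizer_of_invariant hx hp hpr hc
        (by rw [Subgroup.normalizer_eq_top_iff.2 hNn]; exact Subgroup.mem_top x) (fun i h1 h2 h3 => ?_) ha)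
      obtain ⟨e1, e2⟩ := hbad p i hp hpr h1 ((pow_dvd_pow p h2).trans hcdvd) h3
      exact hfull ⟨e1, e2 ▸ h2⟩
    set C := Subgroup.centralizer (N : Set X) with hC
    haveI : C.Normal := Subgroup.normal_centralizer
    obtain ⟨x, hx⟩ := exists_prime_orderOf_dvd_card' r (hn.symm ▸ hr)
    have hrC : r ∣ Nat.card C := hx ▸ Subgroup.orderOf_dvd_natCard C (hfix x hx)
    by_cases hCtop : C = ⊤
    · -- `N` is central
      have hNZ : N ≤ Subgroup.center X := fun a ha => Subgroup.mem_center_iff.2 fun g =>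
        (Subgroup.mem_centralizer_iff.1 (hCtop.ge (Subgroup.mem_top g) : g ∈ C) a ha).symm
      have hmul := Subgroup.card_eq_card_quotient_mul_card_subgroup N
      rw [hn] at hmul
      have hlt : Nat.card (X ⧸ N) < n := by
        rw [hmul]
        exact lt_mul_of_one_lt_right Nat.card_pos ((Subgroup.one_lt_card_iff_ne_bot N).2 hN0)
      have hdvd : Nat.card (X ⧸ N) ∣ n := Dvd.intro _ hmul.symm
      have hrQ : r ∣ Nat.card (X ⧸ N) := (hrp.dvd_mul.1 (hmul ▸ hr)).resolve_right hrN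
      rcases ih _ hlt (X ⧸ N) rfl inferInstance hrQ (fun h => hr2 (h.trans hdvd))
        (fun q' i h1 h2 h3 h4 h5 => hbad q' i h1 h2 h3 (h4.trans hdvd) h5) (fun h => hmax (h.trans hdvd)) with
        ⟨A, hAn, hA⟩ | ⟨hq, A, hAn, hAab, hA⟩
      · obtain ⟨B, hB, hBc, -⟩ := lift_central hNZ (p := r) (c := 1) (hn.symm ▸ hr2) hrN
          (A := A) (by rw [hA, pow_one])
        exact Or.inl ⟨B, hB, by rw [hBc, pow_one]⟩
      · haveI : Fact q.Prime := ⟨hq⟩
        have hqN : ¬ q ∣ Nat.card N := fun h => hmax (by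
          rw [hmul, pow_succ]
          exact mul_dvd_mul (hA ▸ Subgroup.card_subgroup_dvd_card A) h)
        obtain ⟨B, hB, hBc, hBab⟩ := lift_central hNZ (p := q) (c := b) (hn.symm ▸ hmax) hqN (A := A) hA
        exact Or.inr ⟨hq, B, hB, hBab hAab, hBc⟩
    · have hlt : Nat.card C < n := hn ▸ lt_of_le_of_ne (Subgroup.card_le_card_group C) fun e =>
        hCtop (Subgroup.eq_top_of_card_eq C e)
      have hdvd : Nat.card C ∣ n := hn ▸ Subgroup.card_subgroup_dvd_card C
      rcases ih _ hlt C rfl inferInstance hrC (fun h => hr2 (h.trans hdvd))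
        (fun q' i h1 h2 h3 h4 h5 => hbad q' i h1 h2 h3 (h4.trans hdvd) h5) (fun h => hmax (h.trans hdvd)) with
        ⟨A, hAn, hA⟩ | ⟨hq, A, hAn, hAab, hA⟩
      · refine Or.inl ⟨A.map C.subtype, normal_map_subtype (coprime_index (p := r) (c := 1) rfl
          (by rw [hA, pow_one]) fun h => hr2 (h.trans hdvd)), by rw [Subgroup.card_subtype, hA]⟩
      · haveI : Fact q.Prime := ⟨hq⟩
        refine Or.inr ⟨hq, A.map C.subtype,
          normal_map_subtype (coprime_index (p := q) rfl hA fun h => hmax (h.trans hdvd)), ?_,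
          by rw [Subgroup.card_subtype, hA]⟩
        rintro _ ⟨a, ha, rfl⟩ _ ⟨a', ha', rfl⟩
        exact congrArg Subtype.val (hAab a ha a' ha')

/-- The prime `r` divides no degree unless the exceptional Sylow subgroup is normal and abelian. -/
theorem degree_prime_dichotomy {r q b : ℕ} [Fact r.Prime] {X : Type u} [Group X] [Finite X]
    (hsol : Group.IsSolvable X) (hr : r ∣ Nat.card X) (hr2 : ¬ r ^ 2 ∣ Nat.card X)
    (hbad : ∀ q' i : ℕ, q'.Prime → q' ≠ r → 1 ≤ i → q' ^ i ∣ Nat.card X → r ∣ q' ^ i - 1 → q' = q ∧ i = b)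
    (hmax : ¬ q ^ (b + 1) ∣ Nat.card X) :
    (∃ A : Subgroup X, A.Normal ∧ (∀ a ∈ A, ∀ b ∈ A, a * b = b * a) ∧ ¬ r ∣ A.index) ∨
      (∃ A : Subgroup X, A.Normal ∧ (∀ a ∈ A, ∀ b ∈ A, a * b = b * a) ∧ ¬ q ∣ A.index) := by
  rcases dichotomy_aux (q := q) (b := b) _ X rfl hsol hr hr2 hbad hmax with ⟨A, hA, hc⟩ | ⟨hq, A, hA, hab, hc⟩
  · haveI : IsCyclic A := isCyclic_of_prime_card hc
    refine Or.inl ⟨A, hA, fun a ha b hb => congrArg Subtype.val
      ((IsCyclic.commutative (α := A)).is_comm.comm ⟨a, ha⟩ ⟨b, hb⟩), fun h => hr2 ?_⟩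
    rw [← A.card_mul_index, hc, sq]
    exact mul_dvd_mul_left r h
  · refine Or.inr ⟨A, hA, hab, fun h => hmax ?_⟩
    rw [← A.card_mul_index, hc, pow_succ]
    exact mul_dvd_mul_left _ h

end CfsgLib.DegreeGraphSmall
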