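import Cfsg.Agent.Lib.DegreeGraphSmall.Degrees
import Cfsg.Agent.Lib.DegreeGraphSmall.Dichotomy
import Cfsg.Agent.Lib.DegreeAbelian.CenterCase
import Cfsg.Agent.S0252
import Cfsg.Agent.S0494
import Cfsg.Agent.S0495
import Cfsg.Agent.S4774
import Cfsg.Agent.S4812

/-!
# Non-solvable groups of order 360 and 504 that are not simple
-/

namespace CfsgLib.DegreeGraphSmall

open Cfsg CfsgLib.CharTheory CfsgLib.Blocks
open scoped IsMulCommutative

set_option autoImplicit false
set_option linter.unusedVariables false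
set_option linter.style.haveILetI false
set_option linter.unusedSectionVars false

universe u

/-- In an automorphism group of a simple group with `r + 1` Sylow `r`-subgroups of order `r`, these
subgroups are self-centralising and the index bounds the group. -/
theorem sylow_automizer {Q : Type u} [Group Q] [Finite Q] {T : Subgroup Q} [T.Normal] [IsSimpleGroup T]
    (hC : Subgroup.centralizer (T : Set Q) = ⊥) {r : ℕ} [Fact r.Prime] (hrT : r ∣ Nat.card T)
    (hr2 : ¬ r ^ 2 ∣ Nat.card Q) (hTr : Nat.card T ≠ r) (hcnt : Nat.card (Sylow r T) = r + 1) :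
    ∃ x : Q, orderOf x = r ∧ Nat.card (Subgroup.centralizer ({x} : Set Q)) = r ∧
      Nat.card Q = Nat.card (Subgroup.normalizer (Subgroup.zpowers x : Set Q)) * (r + 1) ∧
      Nat.card (Subgroup.normalizer (Subgroup.zpowers x : Set Q)) ∣ r * (r - 1) := by
  classical
  have hrp : r.Prime := Fact.out
  have hrQ : r ∣ Nat.card Q := hrT.trans (Subgroup.card_subgroup_dvd_card T)
  have hcardP : ∀ P : Sylow r Q, Nat.card (P : Subgroup Q) = r := fun P =>
    (SmallOrder.card_sylow_eq (k := 1) P (by rwa [pow_one]) hr2).trans (pow_one r)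
  have hcardT : ∀ P : Sylow r T, Nat.card (P : Subgroup T) = r := fun P =>
    (SmallOrder.card_sylow_eq (k := 1) P (by rwa [pow_one])
      fun h => hr2 (h.trans (Subgroup.card_subgroup_dvd_card T))).trans (pow_one r)
  have hPT : ∀ P : Sylow r Q, (P : Subgroup Q) ≤ T := fun P => le_of_coprime_normal (by
    rw [hcardP P, hrp.coprime_iff_not_dvd]
    intro h
    refine hr2 ?_
    rw [← T.card_mul_index, sq]
    exact mul_dvd_mul hrT h)
  -- the Sylow subgroups of `Q` are those of `T`
  have hn : Nat.card (Sylow r Q) = r + 1 := by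
    rw [← hcnt]
    refine Nat.card_congr (Equiv.ofBijective (fun P => P.subtype (hPT P)) ⟨fun P P' e => ?_, fun S => ?_⟩)
    · have e' := congrArg (fun R : Sylow r T => (R : Subgroup T).map T.subtype) e
      simp only [Sylow.coe_subtype, Subgroup.map_subgroupOf_eq_of_le (hPT P),
        Subgroup.map_subgroupOf_eq_of_le (hPT P')] at e'
      exact Sylow.ext e'
    · obtain ⟨R, hR⟩ := (S.isPGroup'.map T.subtype).exists_le_sylow
      have hRS : (S : Subgroup T).map T.subtype = (R : Subgroup Q) :=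
        Subgroup.eq_of_le_of_card_ge hR (by rw [Subgroup.card_subtype, hcardT, hcardP])
      refine ⟨R, Sylow.ext ?_⟩
      refine Subgroup.map_injective T.subtype_injective ?_
      rw [Sylow.coe_subtype, Subgroup.map_subgroupOf_eq_of_le (hPT R), hRS]
  obtain ⟨P⟩ : Nonempty (Sylow r Q) := inferInstance
  obtain ⟨x₀, hx₀⟩ := exists_prime_orderOf_dvd_card' (G := (P : Subgroup Q)) r (by rw [hcardP])
  set x : Q := (x₀ : Q) with hx
  have hxo : orderOf x = r := by rw [hx, Subgroup.orderOf_coe, hx₀]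
  have hzP : Subgroup.zpowers x = (P : Subgroup Q) :=
    Subgroup.eq_of_le_of_card_ge (Subgroup.zpowers_le.2 x₀.2) (by rw [Nat.card_zpowers, hxo, hcardP])
  -- the action on the Sylow subgroups is faithful
  have hfaith : ∀ y : Q, (∀ S : Sylow r Q, y • S = S) → y = 1 := by
    set K := (MulAction.toPermHom Q (Sylow r Q)).ker with hK
    have hmemK : ∀ y : Q, y ∈ K ↔ ∀ S : Sylow r Q, y • S = S := fun y => by
      rw [hK, MonoidHom.mem_ker]
      exact Equiv.ext_iff
    intro y hy
    have hKT : (K.subgroupOf T) = ⊥ := by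
      refine (Subgroup.Normal.eq_bot_or_eq_top inferInstance).resolve_right fun h => ?_
      rw [Subgroup.subgroupOf_eq_top] at h
      have hTN : T ≤ Subgroup.normalizer ((P : Subgroup Q) : Set Q) := fun t ht =>
        Sylow.smul_eq_iff_mem_normalizer.1 ((hmemK t).1 (h ht) P)
      have hPn : ((P : Subgroup Q).subgroupOf T).Normal :=
        (Subgroup.normal_subgroupOf_iff_le_normalizer (hPT P)).2 hTN
      rcases hPn.eq_bot_or_eq_top with e | e
      · have := congrArg (fun H : Subgroup T => H.map T.subtype) e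
        simp only [Subgroup.map_subgroupOf_eq_of_le (hPT P), Subgroup.map_bot] at this
        have h1 := hcardP P
        rw [this, Subgroup.card_bot] at h1
        exact hrp.ne_one h1.symm
      · refine hTr ?_
        rw [← hcardP P]
        exact congrArg (fun H : Subgroup Q => Nat.card H)
          (le_antisymm (Subgroup.subgroupOf_eq_top.1 e) (hPT P))
    rw [← Subgroup.mem_bot, ← hC]
    refine Subgroup.mem_centralizer_iff.2 fun t ht => ?_
    have hd : Disjoint T K := by
      rw [disjoint_iff, eq_bot_iff]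
      intro z hz
      have h1 : (⟨z, hz.1⟩ : T) ∈ K.subgroupOf T := hz.2
      rw [hKT, Subgroup.mem_bot] at h1
      exact congrArg Subtype.val h1
    exact (Subgroup.commute_of_normal_of_disjoint T K inferInstance inferInstance hd t y ht ((hmemK y).2 hy)).eq
  -- `P` is self-centralising
  have hcent : ∀ y ∈ Subgroup.centralizer ({x} : Set Q), y ∈ (P : Subgroup Q) := by
    intro y hy
    have hyx : Commute y x := Subgroup.mem_centralizer_singleton_iff.1 hy
    have hcomm : ∀ u ∈ (P : Subgroup Q), Commute y u := by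
      intro u hu
      rw [← hzP] at hu
      obtain ⟨k, rfl⟩ := hu
      exact hyx.zpow_right k
    have hyP : y • P = P := Sylow.smul_eq_iff_mem_normalizer.2
      (Subgroup.centralizer_le_normalizer _ (Subgroup.mem_centralizer_iff.2 fun u hu => (hcomm u hu).symm.eq))
    have huP : ∀ u ∈ (P : Subgroup Q), u • P = P := fun u hu =>
      Sylow.smul_eq_iff_mem_normalizer.2 (Subgroup.le_normalizer hu)
    haveI : Nontrivial (Sylow r Q) := Finite.one_lt_card_iff_nontrivial.1 (by rw [hn]; have := hrp.two_le; omega)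
    obtain ⟨P₀, hP₀⟩ := exists_ne P
    have horb : ∀ S : Sylow r Q, S ≠ P → S ∈ MulAction.orbit (P : Subgroup Q) P₀ := by
      obtain ⟨k, hk⟩ := (P.isPGroup').card_orbit P₀
      have hne1 : k ≠ 0 := by
        intro h0
        rw [h0, pow_zero, Nat.card_eq_one_iff_unique] at hk
        have hfix : P₀ ∈ MulAction.fixedPoints (P : Subgroup Q) (Sylow r Q) := fun u => by
          haveI := hk.1
          exact congrArg Subtype.val (Subsingleton.elim
            (⟨u • P₀, MulAction.mem_orbit _ u⟩ : MulAction.orbit (P : Subgroup Q) P₀)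
            ⟨P₀, MulAction.mem_orbit_self _⟩)
        have hle := (P.isPGroup').sylow_mem_fixedPoints_iff.mp hfix
        exact hP₀ (Sylow.ext (Subgroup.eq_of_le_of_card_ge hle (by rw [hcardP, hcardP])).symm)
      have hsub : MulAction.orbit (P : Subgroup Q) P₀ ⊆ ({P}ᶜ : Set (Sylow r Q)) := by
        rintro _ ⟨u, rfl⟩ e
        refine hP₀ (MulAction.injective (u : Q) (Eq.trans e (huP u u.2).symm))
      have hcompl : ({P}ᶜ : Set (Sylow r Q)).ncard = r := by
        rw [Set.ncard_compl, Set.ncard_singleton, hn, Nat.add_sub_cancel]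
      intro S hS
      rw [Set.eq_of_subset_of_ncard_le hsub (by
        rw [hcompl, ← Nat.card_coe_set_eq, hk]
        exact le_self_pow₀ hrp.one_lt.le hne1) (Set.toFinite _)]
      exact hS
    have hy0 : y • P₀ ≠ P := fun e => hP₀ (MulAction.injective y (e.trans hyP.symm))
    obtain ⟨u, hu⟩ := horb _ hy0
    have hu' : (u : Q) • P₀ = y • P₀ := hu
    have hone : (u : Q)⁻¹ * y = 1 := hfaith _ fun S => by
      by_cases hS : S = P
      · rw [hS, mul_smul, hyP, inv_smul_eq_iff, huP _ u.2]
      · obtain ⟨w, rfl⟩ := horb S hS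
        have hc : Commute ((u : Q)⁻¹ * y) (w : Q) := by
          refine Commute.mul_left ?_ (hcomm w w.2)
          refine (Commute.inv_left ?_)
          have h1 : (u : Q) ∈ Subgroup.zpowers x := hzP.ge u.2
          have h2 : (w : Q) ∈ Subgroup.zpowers x := hzP.ge w.2
          obtain ⟨a, ha⟩ := h1
          obtain ⟨b, hb⟩ := h2
          rw [← ha, ← hb]
          exact Commute.zpow_zpow_self x a b
        show ((u : Q)⁻¹ * y) • ((w : Q) • P₀) = (w : Q) • P₀
        rw [← mul_smul, hc.eq, mul_smul, mul_smul, ← hu', inv_smul_smul]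
    rw [← eq_of_inv_mul_eq_one hone]
    exact u.2
  have hCcard : Nat.card (Subgroup.centralizer ({x} : Set Q)) = r := by
    have he : Subgroup.centralizer ({x} : Set Q) = (P : Subgroup Q) := by
      refine le_antisymm hcent fun u hu => ?_
      rw [← hzP] at hu
      obtain ⟨k, rfl⟩ := hu
      exact Subgroup.mem_centralizer_singleton_iff.2 ((Commute.refl x).zpow_left k).eq
    rw [he, hcardP]
  refine ⟨x, hxo, hCcard, ?_, ?_⟩
  · have h := SmallOrder.card_normalizer_mul_card_sylow P
    rw [hn] at h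
    rw [hzP]
    exact h.symm
  · have hCN : Subgroup.centralizer ((P : Subgroup Q) : Set Q) ≤ Subgroup.normalizer ((P : Subgroup Q) : Set Q) :=
      Subgroup.centralizer_le_normalizer _
    have hCP : Subgroup.centralizer ((P : Subgroup Q) : Set Q) = Subgroup.centralizer ({x} : Set Q) := by
      rw [← hzP, Subgroup.zpowers_eq_closure, Subgroup.centralizer_closure]
    have h1 := Subgroup.card_mul_index ((Subgroup.centralizer ((P : Subgroup Q) : Set Q)).subgroupOf
      (Subgroup.normalizer ((P : Subgroup Q) : Set Q)))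
    rw [Nat.card_congr (Subgroup.subgroupOfEquivOfLe hCN).toEquiv, ← Subgroup.relIndex, hCP, hCcard] at h1
    rw [hzP, ← h1]
    refine mul_dvd_mul_left r ?_
    rw [← hCP]
    haveI := Fintype.ofFinite Q
    exact SmallOrders.relIndex_dvd (P : Subgroup Q) (hcardP P)

/-- The number of Sylow subgroups in the simple groups of order 60 and 168. -/
theorem card_sylow_succ {T : Type u} [Group T] [Finite T] [IsSimpleGroup T] {r k : ℕ} [Fact r.Prime]
    (hT : Nat.card T = r * k) (hrk : ¬ r ∣ k) (hk : k ≠ 1)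
    (hf : ∀ d ∈ k.divisors.filter (fun d => d % r = 1), d = 1 ∨ d = r + 1) :
    Nat.card (Sylow r T) = r + 1 := by
  obtain ⟨P⟩ : Nonempty (Sylow r T) := inferInstance
  have hrp : r.Prime := Fact.out
  have hP : Nat.card P = r := (SmallOrder.card_sylow_eq (k := 1) P (by rw [hT, pow_one]; exact dvd_mul_right r k)
    (by rw [hT, pow_succ, pow_one]; exact fun h => hrk ((Nat.mul_dvd_mul_iff_left hrp.pos).1 h))).trans (pow_one r)
  refine (hf _ (SmallOrder.card_sylow_mem_filter P hP hT hrp.ne_zero)).resolve_left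
    (SmallOrder.card_sylow_ne_one P (by rw [hP]; exact hrp.ne_one) ?_)
  rw [hT, hP]
  exact fun h => hk ((Nat.mul_eq_left hrp.ne_zero).1 h)

/-- The arithmetic of the degrees of a group of order 120 without a degree divisible by six. -/
theorem no_degrees (a b c e f g h : ℕ) (h1 : a + 4 * b + 9 * c + 16 * e + 25 * f + 64 * g + 100 * h = 120)
    (h2 : a + 4 * b + 4 * c + e + 4 * g ≤ 5) (h3 : a ≤ 2) (h4 : 1 ≤ a) : False := by
  have hb : b ≤ 1 := by omega
  have hc : c ≤ 1 := by omega
  have hg : g ≤ 1 := by omega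
  have he : e ≤ 4 := by omega
  interval_cases a <;> interval_cases b <;> interval_cases c <;> interval_cases g <;> interval_cases e <;> omega

/-- An automorphism group of order 120 of a simple group of order 60 has a degree divisible by six. -/
theorem six_dvd_degree {Q : Type u} [Group Q] [Finite Q] (hQ : Nat.card Q = 120) {T : Subgroup Q}
    [T.Normal] [IsSimpleGroup T] (hTna : ¬ IsMulCommutative T) (hT : Nat.card T = 60)
    (hC : Subgroup.centralizer (T : Set Q) = ⊥) : ∃ d ∈ charDegrees Q, 6 ∣ d := by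
  classical
  haveI := Fintype.ofFinite Q
  haveI : Fact (Nat.Prime 5) := ⟨by norm_num⟩
  by_contra hno
  push Not at hno
  obtain ⟨x, hx, hCx, hN, -⟩ := sylow_automizer hC (r := 5) (by rw [hT]; norm_num) (by rw [hQ]; norm_num)
    (by rw [hT]; norm_num) (card_sylow_succ (k := 12) (by rw [hT]) (by norm_num) (by norm_num) (by decide))
  rw [hQ] at hN
  have hconj : ∀ i : ℕ, ¬ 5 ∣ i → IsConj x (x ^ i) := fun i hi =>
    isConj_pow_of_card_normalizer (by norm_num) hx hCx (by omega) i hi
  let D : IrrCharacter Q → ℕ := fun χ => charDegree (χ : Q → ℂ)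
  have hval : ∀ χ : IrrCharacter Q, ∃ v : ℤ, (χ : Q → ℂ) x = v ∧ ((5 : ℕ) : ℤ) ∣ v - (D χ : ℤ) := fun χ =>
    exists_int_value (by norm_num) hx hconj (isCharacter_of_irr χ.2)
  choose v hv hv5 using hval
  -- the orthogonality relations
  have hsq : ∑ χ, v χ ^ 2 = 5 := by
    have h := sum_irr_mul_conj x x
    rw [if_pos (IsConj.refl x), hCx] at h
    simp only [hv, map_intCast, ← sq] at h
    exact_mod_cast h
  have hsum : ∑ χ, D χ ^ 2 = 120 := by
    have h := sum_irr_degree_sq (G := Q)
    simp only [fun χ : IrrCharacter Q => charDegree_apply_one (isCharacter_of_irr χ.2), hQ] at h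
    exact_mod_cast h
  have hdeg : ∀ χ, D χ ∈ ([1, 2, 3, 4, 5, 8, 10] : List ℕ) := by
    intro χ
    have hd : D χ ∈ charDegrees Q := ⟨χ, rfl⟩
    obtain ⟨h1, h2⟩ := degree_center hd
    have h3 : D χ ∣ 120 := hQ ▸ h1.trans (Subgroup.index_dvd_card _)
    have h4 : D χ ^ 2 ≤ 120 := h2.trans (hQ ▸ Nat.le_of_dvd Nat.card_pos (Subgroup.index_dvd_card _))
    have h5 : D χ ≤ 10 := by nlinarith
    have h6 := hno _ hd
    revert h6 h3
    interval_cases hD : D χ <;> simp
  -- few linear characters
  have hidx : T.index = 2 := by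
    have := T.card_mul_index
    rw [hT, hQ] at this
    omega
  have hlin : (Finset.univ.filter fun χ => D χ = 1).card ≤ 2 := by
    obtain ⟨y, hy⟩ : ∃ y, y ∉ T := by
      by_contra hh
      push Not at hh
      rw [(Subgroup.eq_top_iff' T).2 hh, Subgroup.card_top, hQ] at hT
      norm_num at hT
    have hone : ∀ (χ : IrrCharacter Q) (f : Q →* ℂˣ), (χ : Q → ℂ) = (fun g => (f g : ℂ)) →
        ∀ t ∈ T, (χ : Q → ℂ) t = 1 := by
      intro χ f hf t ht
      have h1 : (f.comp T.subtype).ker = ⊤ := by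
        refine (Subgroup.Normal.eq_bot_or_eq_top inferInstance).resolve_left fun h => hTna ?_
        exact ⟨⟨fun a b => (MonoidHom.ker_eq_bot_iff _).1 h (by simp [mul_comm])⟩⟩
      have h2 : f t = 1 := (f.comp T.subtype).mem_ker.1 (h1.ge (Subgroup.mem_top (⟨t, ht⟩ : T)))
      simp [hf, h2]
    have hlin' : ∀ χ : IrrCharacter Q, D χ = 1 → ∃ f : Q →* ℂˣ, (χ : Q → ℂ) = fun g => (f g : ℂ) := by
      intro χ hχ
      obtain ⟨f, hf⟩ := exists_hom_of_degree_one (isCharacter_of_irr χ.2) (by
        rw [charDegree_apply_one (isCharacter_of_irr χ.2)]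
        exact_mod_cast hχ)
      exact ⟨f, hf⟩
    refine le_trans (Finset.card_le_card_of_injOn (fun χ : IrrCharacter Q => (χ : Q → ℂ) y)
      (t := ({1, -1} : Finset ℂ)) ?_ ?_) Finset.card_le_two
    · intro χ hχ
      obtain ⟨f, hf⟩ := hlin' χ (Finset.mem_filter.1 hχ).2
      have h1 := hone χ f hf (y * y) (Subgroup.mul_self_mem_of_index_two hidx y)
      simp only [hf, map_mul, Units.val_mul] at h1
      simp only [Finset.coe_insert, Finset.coe_singleton, Set.mem_insert_iff, Set.mem_singleton_iff, hf]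
      exact mul_self_eq_one_iff.1 h1
    · intro χ hχ θ hθ e
      obtain ⟨f, hf⟩ := hlin' χ (Finset.mem_filter.1 hχ).2
      obtain ⟨f', hf'⟩ := hlin' θ (Finset.mem_filter.1 hθ).2
      refine Subtype.ext (funext fun g => ?_)
      by_cases hg : g ∈ T
      · rw [hone χ f hf g hg, hone θ f' hf' g hg]
      · have hmem : g * y⁻¹ ∈ T := by
          rw [Subgroup.mul_mem_iff_of_index_two hidx]
          simp [hg, hy]
        have e1 : (χ : Q → ℂ) g = (χ : Q → ℂ) (g * y⁻¹) * (χ : Q → ℂ) y := by
          simp only [hf, ← Units.val_mul, ← map_mul, inv_mul_cancel_right]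
        have e2 : (θ : Q → ℂ) g = (θ : Q → ℂ) (g * y⁻¹) * (θ : Q → ℂ) y := by
          simp only [hf', ← Units.val_mul, ← map_mul, inv_mul_cancel_right]
        rw [e1, e2, hone χ f hf _ hmem, hone θ f' hf' _ hmem]
        exact congrArg (fun z => (1 : ℂ) * z) e
  -- counting
  let c : ℕ → ℕ := fun k => (Finset.univ.filter fun χ => D χ = k).card
  have hmaps : ∀ χ ∈ (Finset.univ : Finset (IrrCharacter Q)), D χ ∈ ({1, 2, 3, 4, 5, 8, 10} : Finset ℕ) :=
    fun χ _ => by simpa using hdeg χ
  have e1 : ∑ k ∈ ({1, 2, 3, 4, 5, 8, 10} : Finset ℕ), c k * k ^ 2 = 120 := by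
    rw [← hsum, ← Finset.sum_fiberwise_of_maps_to hmaps]
    refine Finset.sum_congr rfl fun k _ => ?_
    rw [Finset.sum_congr rfl (fun χ hχ => by rw [(Finset.mem_filter.1 hχ).2]), Finset.sum_const, smul_eq_mul]
  let w : ℕ → ℤ := fun k => if k % 5 = 0 then 0 else if k % 5 = 1 ∨ k % 5 = 4 then 1 else 4
  have hw : ∀ χ, w (D χ) ≤ v χ ^ 2 := by
    intro χ
    obtain ⟨t, ht⟩ := hv5 χ
    simp only [w]
    split_ifs with h1 h2
    · exact sq_nonneg _
    · have : v χ ≠ 0 := by intro h; rw [h] at ht; push_cast at ht; omega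
      rcases lt_or_gt_of_ne this with h | h <;> nlinarith
    · have : v χ ≤ -2 ∨ 2 ≤ v χ := by push_cast at ht; omega
      rcases this with h | h <;> nlinarith
  have e2 : ∑ k ∈ ({1, 2, 3, 4, 5, 8, 10} : Finset ℕ), (c k : ℤ) * w k ≤ 5 := by
    calc _ = ∑ χ, w (D χ) := by
          rw [← Finset.sum_fiberwise_of_maps_to hmaps]
          refine Finset.sum_congr rfl fun k _ => ?_
          rw [Finset.sum_congr rfl (fun χ hχ => by rw [(Finset.mem_filter.1 hχ).2]), Finset.sum_const,
            nsmul_eq_mul]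
      _ ≤ ∑ χ, v χ ^ 2 := Finset.sum_le_sum fun χ _ => hw χ
      _ = 5 := hsq
  have hone1 : 1 ≤ c 1 := by
    refine Finset.card_pos.2 ⟨oneIrr Q, Finset.mem_filter.2 ⟨Finset.mem_univ _, ?_⟩⟩
    simp [D, Cfsg.charDegree, show ((oneIrr Q : IrrCharacter Q) : Q → ℂ) 1 = 1 from rfl]
  simp [Finset.sum_insert, w] at e1 e2
  exact no_degrees (c 1) (c 2) (c 3) (c 4) (c 5) (c 8) (c 10) (by omega) (by omega) hlin hone1

variable {G' : Type u} [Group G'] [Finite G']

/-- The product of a degree of each factor is a degree of a direct product. -/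
theorem mul_mem_charDegrees {A B : Type u} [Group A] [Finite A] [Group B] [Finite B] (e : G' ≃* A × B)
    {a b : ℕ} (ha : a ∈ charDegrees A) (hb : b ∈ charDegrees B) : a * b ∈ charDegrees G' := by
  classical
  haveI := Fintype.ofFinite A
  haveI := Fintype.ofFinite B
  obtain ⟨α, rfl⟩ := ha
  obtain ⟨β, rfl⟩ := hb
  let χ : A × B → ℂ := fun z => (α : A → ℂ) z.1 * (β : B → ℂ) z.2
  have h1 : IsIrrCharacter (A × B) fun z => (α : A → ℂ) z.1 :=
    isIrrCharacter_comp_surjective α.2 (MonoidHom.fst A B) Prod.fst_surjective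
  have h2 : IsIrrCharacter (A × B) fun z => (β : B → ℂ) z.2 :=
    isIrrCharacter_comp_surjective β.2 (MonoidHom.snd A B) Prod.snd_surjective
  have hχ : IsCharacter (A × B) χ := isCharacter_mul (isCharacter_of_irr h1) (isCharacter_of_irr h2)
  have hone : χ 1 = ((charDegree (α : A → ℂ) * charDegree (β : B → ℂ) : ℕ) : ℂ) := by
    simp only [χ, Prod.fst_one, Prod.snd_one, Nat.cast_mul, irr_charDegree_cast]
  have hnorm : classInner χ χ = 1 := by
    have hα := classInner_irr_self α.2
    have hβ := classInner_irr_self β.2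
    simp only [Cfsg.classInner, Nat.card_prod, Nat.cast_mul] at hα hβ ⊢
    rw [Fintype.sum_prod_type]
    simp only [χ, map_mul, mul_mul_mul_comm ((α : A → ℂ) _) ((β : B → ℂ) _), ← Finset.mul_sum, ← Finset.sum_mul]
    rw [mul_inv, mul_mul_mul_comm, hα, hβ, mul_one]
  have hirr : IsIrrCharacter (A × B) χ := irr_of_norm_one (isGenChar_of_char hχ) hnorm (by
    rw [hone, Complex.natCast_re, Nat.cast_pos]
    refine Nat.mul_pos (Nat.pos_of_ne_zero fun h => irr_one_ne_zero α ?_) (Nat.pos_of_ne_zero fun h => irr_one_ne_zero β ?_)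
    · rw [← irr_charDegree_cast, h, Nat.cast_zero]
    · rw [← irr_charDegree_cast, h, Nat.cast_zero])
  refine ⟨⟨fun g => χ (e g), isIrrCharacter_comp_surjective hirr e.toMonoidHom e.surjective⟩, ?_⟩
  show ⌊(χ (e 1)).re⌋₊ = _
  rw [map_one, hone, Complex.natCast_re, Nat.floor_natCast]

/-- A non-simple non-solvable group of order 504 joins 2 and 3. -/
theorem adj_two_three_504 (R : Subgroup G') [R.Normal] (T : Subgroup (G' ⧸ R)) [T.Normal] [IsSimpleGroup T]
    (hG : Nat.card G' = 504) (hT : Nat.card T = 168) (hC : Subgroup.centralizer (T : Set (G' ⧸ R)) = ⊥) :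
    (degreeGraph G').Adj 2 3 := by
  haveI : Fact (Nat.Prime 7) := ⟨by norm_num⟩
  have hQdvd : Nat.card (G' ⧸ R) ∣ 504 :=
    hG ▸ Dvd.intro _ (Subgroup.card_eq_card_quotient_mul_card_subgroup R).symm
  have hTdvd : 168 ∣ Nat.card (G' ⧸ R) := hT ▸ Subgroup.card_subgroup_dvd_card T
  obtain ⟨x, -, -, hQ, hN⟩ := sylow_automizer hC (r := 7) (by rw [hT]; norm_num)
    (fun h => by have := h.trans hQdvd; norm_num at this) (by rw [hT]; norm_num)
    (card_sylow_succ (k := 24) (by rw [hT]) (by norm_num) (by norm_num) (by decide))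
  have hle := Nat.le_of_dvd (by norm_num) hN
  have hQ168 : Nat.card (G' ⧸ R) = 168 := by
    obtain ⟨t, ht⟩ := hTdvd
    have h2 := Nat.le_of_dvd (by norm_num) hQdvd
    have h0 : 0 < Nat.card (G' ⧸ R) := Nat.card_pos
    have : t = 1 ∨ t = 2 ∨ t = 3 := by omega
    rcases this with rfl | rfl | rfl
    · exact ht
    · rw [ht] at hQdvd; norm_num at hQdvd
    · omega
  have hTtop : T = ⊤ := Subgroup.eq_top_of_card_eq T (by rw [hT, hQ168])
  haveI hQs : IsSimpleGroup (G' ⧸ R) :=
    ((MulEquiv.subgroupCongr hTtop).trans Subgroup.topEquiv).symm.isSimpleGroup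
  have hiso := Cfsg.Agent.S0495.result hQ168 (F := ZMod 7) (ZMod.card 7)
  obtain ⟨-, hadj⟩ := Cfsg.Agent.S4774.result (ZMod 7) 7 (by norm_num) 7 (ZMod.card 7) (by norm_num) (Or.inl hiso)
  refine adj_quotient R ((hadj 2 3).2 ⟨by norm_num, Nat.prime_two, Nat.prime_three, ?_⟩)
  norm_num

/-- A degree divisible by three. -/
theorem three_mem_of_sixty {T : Type u} [Group T] [Finite T] [IsSimpleGroup T] (hT : Nat.card T = 60) :
    3 ∈ degreePrimes T := by
  haveI : Fact (Nat.Prime 2) := ⟨Nat.prime_two⟩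
  letI : Fintype (GaloisField 2 2) := Fintype.ofFinite _
  have hF : Fintype.card (GaloisField 2 2) = 4 := by
    rw [← Nat.card_eq_fintype_card, GaloisField.card 2 2 (by norm_num)]
    norm_num
  obtain ⟨e⟩ := Cfsg.Agent.S0494.result hT
  obtain ⟨e'⟩ := Cfsg.Agent.S0252.result (F := GaloisField 2 2) hF
  obtain ⟨h, -⟩ := Cfsg.Agent.S4812.result (GaloisField 2 2) 4 hF le_rfl (Or.inl ⟨e.trans e'.symm⟩)
  rw [h]
  exact ⟨Nat.prime_three, by norm_num⟩

/-- A non-simple non-solvable group of order 360 joins 2 and 3, or separates 2 and 5. -/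
theorem adj_360 (R : Subgroup G') [R.Normal] (T : Subgroup (G' ⧸ R)) [T.Normal] [IsSimpleGroup T]
    (hTna : ¬ IsMulCommutative T)
    (hG : Nat.card G' = 360) (hT : Nat.card T = 60) (hC : Subgroup.centralizer (T : Set (G' ⧸ R)) = ⊥) :
    (degreeGraph G').Adj 2 3 ∨ ¬ (degreeGraph G').Adj 2 5 := by
  classical
  haveI : Fact (Nat.Prime 5) := ⟨by norm_num⟩
  have hmul := Subgroup.card_eq_card_quotient_mul_card_subgroup R
  rw [hG] at hmul
  have hTdvd : 60 ∣ Nat.card (G' ⧸ R) := hT ▸ Subgroup.card_subgroup_dvd_card T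
  obtain ⟨x, -, -, hQ, hN⟩ := sylow_automizer hC (r := 5) (by rw [hT]; norm_num)
    (fun h => by have := h.trans (Dvd.intro _ hmul.symm); norm_num at this) (by rw [hT]; norm_num)
    (card_sylow_succ (k := 12) (by rw [hT]) (by norm_num) (by norm_num) (by decide))
  have hle := Nat.le_of_dvd (by norm_num) hN
  obtain ⟨t, ht⟩ := hTdvd
  have ht12 : t = 1 ∨ t = 2 := by
    have : 0 < Nat.card (G' ⧸ R) := Nat.card_pos
    omega
  rcases ht12 with rfl | rfl
  swap
  · -- the quotient has order 120
    left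
    obtain ⟨d, hd, h6⟩ := six_dvd_degree (Q := G' ⧸ R) (T := T) (by rw [ht]) hTna hT hC
    exact adj_quotient R ⟨by norm_num, Nat.prime_two, Nat.prime_three, d, hd, h6⟩
  -- the quotient is simple and the radical has order six
  rw [mul_one] at ht
  have hR6 : Nat.card R = 6 := by rw [ht] at hmul; omega
  have hTtop : T = ⊤ := Subgroup.eq_top_of_card_eq T (by rw [hT, ht])
  haveI hQs : IsSimpleGroup (G' ⧸ R) :=
    ((MulEquiv.subgroupCongr hTtop).trans Subgroup.topEquiv).symm.isSimpleGroup
  set C := Subgroup.centralizer (R : Set G') with hCdef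
  haveI : C.Normal := Subgroup.normal_centralizer
  obtain ⟨y, hy⟩ := exists_prime_orderOf_dvd_card' (G := G') 5 (by rw [hG]; norm_num)
  have hyC : y ∈ C := centralizes_normal hy (by rw [hG]; norm_num) (by rw [hR6]; norm_num)
    fun q i hq hi hqi => by
      rw [hR6] at hqi
      have h6 := Nat.le_of_dvd (by norm_num) hqi
      intro h5
      have : ∀ n ≤ 6, n ∣ 6 → 5 ∣ n - 1 → n = 1 ∨ n = 6 := by decide
      rcases this _ h6 hqi h5 with e | e
      · exact (Nat.one_lt_pow (by omega) hq.one_lt).ne' e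
      · exact (by norm_num : ¬ (2 : ℕ) = 3) (((Nat.prime_dvd_prime_iff_eq Nat.prime_two hq).1
          (Nat.prime_two.dvd_of_dvd_pow (e ▸ (by norm_num : 2 ∣ 6)))).trans
          ((Nat.prime_dvd_prime_iff_eq Nat.prime_three hq).1
          (Nat.prime_three.dvd_of_dvd_pow (e ▸ (by norm_num : 3 ∣ 6)))).symm)
  have hyR : y ∉ R := fun h => by
    have := Subgroup.orderOf_dvd_natCard R h
    rw [hy, hR6] at this
    norm_num at this
  have hCR : C ⊔ R = ⊤ := by
    have hn : (C.map (QuotientGroup.mk' R)).Normal :=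
      Subgroup.Normal.map inferInstance _ (QuotientGroup.mk'_surjective R)
    rcases hn.eq_bot_or_eq_top with h | h
    · rw [Subgroup.map_eq_bot_iff, QuotientGroup.ker_mk'] at h
      exact absurd (h hyC) hyR
    · have := congrArg (Subgroup.comap (QuotientGroup.mk' R)) h
      rwa [Subgroup.comap_map_eq, QuotientGroup.ker_mk', Subgroup.comap_top] at this
  by_cases hRab : IsMulCommutative R
  · right
    have hRC : R ≤ C := fun a ha => Subgroup.mem_centralizer_iff.2 fun b hb =>
      congrArg Subtype.val (hRab.is_comm.comm ⟨b, hb⟩ ⟨a, ha⟩)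
    have hRZ : R ≤ Subgroup.center G' := fun a ha => Subgroup.mem_center_iff.2 fun g => by
      have hg : g ∈ C := (sup_eq_left.2 hRC).le (hCR.ge (Subgroup.mem_top g))
      exact (Subgroup.mem_centralizer_iff.1 hg a ha).symm
    rintro ⟨-, -, -, d, hd, h10⟩
    obtain ⟨-, h2⟩ := degree_center hd
    have h60 : (Subgroup.center G').index ≤ 60 :=
      (Nat.le_of_dvd Nat.card_pos (Subgroup.index_dvd_of_le hRZ)).trans ht.le
    have hd0 : d ≠ 0 := by
      obtain ⟨χ, rfl⟩ := hd
      exact fun h => irr_one_ne_zero χ (by rw [← irr_charDegree_cast, h, Nat.cast_zero])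
    have := Nat.le_of_dvd (Nat.pos_of_ne_zero hd0) h10
    nlinarith
  · left
    have hZ : Subgroup.center R = ⊥ := by
      by_contra hne
      have h1 := (Subgroup.center R).card_mul_index
      rw [hR6] at h1
      have h2 : 1 < Nat.card (Subgroup.center R) := (Subgroup.one_lt_card_iff_ne_bot _).2 hne
      have h3 : (Subgroup.center R).index ≤ 3 := by nlinarith
      have h4 : 0 < (Subgroup.center R).index := Nat.pos_of_ne_zero Subgroup.index_ne_zero_of_finite
      haveI : IsCyclic (R ⧸ Subgroup.center R) := by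
        have h5 : (Subgroup.center R).index = 1 ∨ (Subgroup.center R).index = 2 ∨ (Subgroup.center R).index = 3 := by omega
        rcases h5 with e | e | e
        · haveI : Subsingleton (R ⧸ Subgroup.center R) := (Nat.card_eq_one_iff_unique.1 e).1
          infer_instance
        · haveI : Fact (Nat.Prime 2) := ⟨Nat.prime_two⟩
          exact isCyclic_of_prime_card (p := 2) e
        · haveI : Fact (Nat.Prime 3) := ⟨Nat.prime_three⟩
          exact isCyclic_of_prime_card (p := 3) e
      exact hRab (MonoidHom.isMulCommutative_of_isCyclic_of_ker_le_center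
        (QuotientGroup.mk' (Subgroup.center R)) (QuotientGroup.ker_mk' _).le)
    have hd : Disjoint R C := by
      rw [disjoint_iff, eq_bot_iff]
      intro a ha
      have h1 : (⟨a, ha.1⟩ : R) ∈ Subgroup.center R := Subgroup.mem_center_iff.2 fun b =>
        Subtype.ext (Subgroup.mem_centralizer_iff.1 ha.2 b b.2)
      rw [hZ, Subgroup.mem_bot] at h1
      exact congrArg Subtype.val h1
    let f : R × C →* G' := R.subtype.noncommCoprod C.subtype fun a c =>
      Subgroup.mem_centralizer_iff.1 c.2 a a.2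
    have hf : Function.Bijective f := by
      refine ⟨(injective_iff_map_eq_one f).2 fun z hz => ?_, fun g => ?_⟩
      · have h1 : (z.1 : G') * z.2 = 1 := hz
        have h2 : (z.1 : G') ∈ R ⊓ C := ⟨z.1.2, by rw [eq_inv_of_mul_eq_one_left h1]; exact C.inv_mem z.2.2⟩
        rw [hd.eq_bot, Subgroup.mem_bot] at h2
        rw [h2, one_mul] at h1
        exact Prod.ext (Subtype.ext h2) (Subtype.ext h1)
      · obtain ⟨a, ha, c, hc, e⟩ := Subgroup.mem_sup_of_normal_left.1
          ((sup_comm C R) ▸ hCR.ge (Subgroup.mem_top g))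
        exact ⟨(⟨a, ha⟩, ⟨c, hc⟩), e⟩
    let π : C →* G' ⧸ R := (QuotientGroup.mk' R).comp C.subtype
    have hπ : Function.Bijective π := by
      refine ⟨(injective_iff_map_eq_one π).2 fun c hc => ?_, fun q => ?_⟩
      · have h1 : (c : G') ∈ R ⊓ C := ⟨(QuotientGroup.eq_one_iff (c : G')).1 hc, c.2⟩
        rw [hd.eq_bot, Subgroup.mem_bot] at h1
        exact Subtype.ext h1
      · obtain ⟨g, rfl⟩ := QuotientGroup.mk'_surjective R q
        obtain ⟨⟨a, c⟩, e⟩ := hf.2 g
        refine ⟨c, ?_⟩
        show ((c : G') : G' ⧸ R) = (g : G' ⧸ R)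
        rw [← e]
        show ((c : G') : G' ⧸ R) = (((a : G') * (c : G') : G') : G' ⧸ R)
        rw [QuotientGroup.mk_mul, (QuotientGroup.eq_one_iff _).2 a.2, one_mul]
    haveI hCs : IsSimpleGroup C := (MulEquiv.ofBijective π hπ).isSimpleGroup
    obtain ⟨-, d', hd', h3⟩ := three_mem_of_sixty (T := C)
      (by rw [Nat.card_congr (Equiv.ofBijective π hπ), ht])
    obtain ⟨ψ, hψ, h2⟩ := DegreeAbelian.exists_nonlinear R (fun hc => hRab ⟨⟨fun a b => by
      have h1 : a * b * a⁻¹ * b⁻¹ ∈ commutator R := Subgroup.commutator_mem_commutator (Subgroup.mem_top a) (Subgroup.mem_top b)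
      rw [hc, Subgroup.mem_bot] at h1
      exact (mul_inv_eq_iff_eq_mul.1 (mul_inv_eq_one.1 h1))⟩⟩)
    have hdR : charDegree ψ ∈ charDegrees R := ⟨⟨ψ, hψ⟩, rfl⟩
    obtain ⟨g1, g2⟩ := degree_center hdR
    have h6 : (Subgroup.center R).index ≤ 6 := hR6 ▸ Nat.le_of_dvd Nat.card_pos (Subgroup.index_dvd_card _)
    have h2' : charDegree ψ = 2 := by nlinarith
    have hprod := mul_mem_charDegrees (MulEquiv.ofBijective f hf).symm hdR hd'
    refine ⟨by norm_num, Nat.prime_two, Nat.prime_three, _, hprod, ?_⟩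
    rw [h2']
    exact mul_dvd_mul_left 2 h3

end CfsgLib.DegreeGraphSmall
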