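import Cfsg.Agent.Lib.Blocks.Central
import Cfsg.Agent.Lib.CharTheory.Degree
import Cfsg.Agent.Lib.CharTheory.DegreeSection
import Cfsg.Agent.Lib.CharTheory.PowerMap
import Cfsg.Agent.Lib.SmallOrder
import Cfsg.Agent.Lib.SL2Char.DegreeGraph
import Cfsg.Agent.S0157

/-!
# Primes of character degrees: elementary criteria
-/

namespace CfsgLib.DegreeGraphSmall

open Cfsg CfsgLib.CharTheory

set_option autoImplicit false
set_option linter.unusedVariables false
set_option linter.style.haveILetI false
set_option linter.unusedSectionVars false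

universe u v

variable {G : Type u} [Group G] [Finite G]

theorem charDegree_apply_one {χ : G → ℂ} (hχ : IsCharacter G χ) : χ 1 = (charDegree χ : ℂ) :=
  (CfsgLib.Blocks.charDegree_cast hχ).symm

theorem charDegree_character {n : ℕ} (ρ : Representation ℂ G (Fin n → ℂ)) :
    charDegree ρ.character = n := by
  simp [Cfsg.charDegree, Representation.char_one]

/-- A prime not dividing the index of a normal abelian subgroup divides no degree. -/
theorem not_mem_degreePrimes (A : Subgroup G) [A.Normal] (hA : ∀ a ∈ A, ∀ b ∈ A, a * b = b * a)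
    {r : ℕ} (hr : ¬ r ∣ A.index) : r ∉ degreePrimes G := by
  rintro ⟨-, d, ⟨⟨χ, n, ρ, hρ, rfl⟩, rfl⟩, hd⟩
  haveI := hρ
  have h := degree_dvd_index_of_abelian_normal ρ A hA
  rw [Module.finrank_fin_fun] at h
  rw [charDegree_character] at hd
  exact hr (hd.trans h)

/-- Degrees divide the index of the centre and have square at most that index. -/
theorem degree_center {d : ℕ} (hd : d ∈ charDegrees G) :
    d ∣ (Subgroup.center G).index ∧ d ^ 2 ≤ (Subgroup.center G).index := by
  classical
  haveI := Fintype.ofFinite G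
  obtain ⟨⟨χ, n, ρ, hρ, rfl⟩, rfl⟩ := hd
  haveI := hρ
  rw [charDegree_character]
  refine ⟨?_, ?_⟩
  · have h := degree_dvd_index_center ρ
    rwa [Module.finrank_fin_fun] at h
  · have h := irr_degree_sq_le_of_section (K := G) (θ := ρ.character) ⟨n, ρ, hρ, rfl⟩ (d := n)
      (by rw [Representation.char_one, Module.finrank_fin_fun]) ⊤ (Subgroup.center G) le_top
      (fun x hx y _ => by
        rw [← Subgroup.mem_center_iff.mp hx y, mul_inv_cancel_right, mul_inv_cancel])
    rwa [Subgroup.index_top, one_pow, one_mul, Subgroup.relIndex_top_right] at h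

/-- Degrees of a quotient are degrees. -/
theorem charDegrees_quotient (N : Subgroup G) [N.Normal] : charDegrees (G ⧸ N) ⊆ charDegrees G :=
  SL2Char.charDegrees_subset (QuotientGroup.mk' N) (QuotientGroup.mk'_surjective N)

theorem adj_quotient (N : Subgroup G) [N.Normal] {r s : ℕ} (h : (degreeGraph (G ⧸ N)).Adj r s) :
    (degreeGraph G).Adj r s := by
  obtain ⟨h1, h2, h3, d, hd, hrs⟩ := h
  exact ⟨h1, h2, h3, d, charDegrees_quotient N hd, hrs⟩

theorem degreePrimes_mulEquiv {H : Type v} [Group H] (e : G ≃* H) :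
    degreePrimes G = degreePrimes H := by
  unfold degreePrimes
  rw [SL2Char.charDegrees_mulEquiv e]

/-- A `2`-transitive action on `n + 1` points gives the degree `n`. -/
theorem mem_charDegrees_of_two_transitive (X : Type v) [MulAction G X] [Finite X] {n : ℕ} (hn : 1 ≤ n)
    (hX : Nat.card X = n + 1) (h2 : MulAction.IsMultiplyPretransitive G X 2) : n ∈ charDegrees G := by
  haveI : MulAction.IsPretransitive G X :=
    MulAction.isPretransitive_of_is_two_pretransitive (G := G) (α := X)
  refine ⟨⟨_, (Cfsg.Agent.S0157.result X (by omega)).2 h2⟩, ?_⟩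
  have h1 : MulAction.fixedBy X (1 : G) = Set.univ := by ext; simp
  simp [Cfsg.charDegree, h1, hX]

/-- An element of prime order conjugate to all its non-trivial powers has rational integral values,
congruent to the degree. -/
theorem exists_int_value {p : ℕ} (hp : p.Prime) {x : G} (hx : orderOf x = p)
    (hc : ∀ i : ℕ, ¬ p ∣ i → IsConj x (x ^ i)) {χ : G → ℂ} (hχ : IsCharacter G χ) :
    ∃ v : ℤ, χ x = v ∧ (p : ℤ) ∣ v - (charDegree χ : ℤ) := by
  classical
  haveI := Fintype.ofFinite G
  have hcf : ∀ a b : G, IsConj a b → χ a = χ b :=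
    isClassFunction_iff_isConj.mp (isClassFunction_char hχ)
  obtain ⟨v, hv⟩ := rational_int_of_invariant hχ x fun m hm => by
    refine (hcf _ _ (hc m fun h => hp.ne_one ?_)).symm
    exact Nat.dvd_one.mp (hm ▸ Nat.dvd_gcd h (hx ▸ orderOf_dvd_natCard x))
  refine ⟨v, hv, ?_⟩
  -- average over the cyclic group generated by `x`
  haveI := Fintype.ofFinite (Subgroup.zpowers x)
  have hχ' := isCharacter_restrict hχ (Subgroup.zpowers x)
  obtain ⟨k, hk⟩ := classInner_char_nat hχ' (isCharacter_one (G := Subgroup.zpowers x))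
  have hval : ∀ y : Subgroup.zpowers x, y ≠ 1 → χ (y : G) = (v : ℂ) := by
    rintro ⟨y, hy⟩ hne
    obtain ⟨i, rfl⟩ := (mem_powers_iff_mem_zpowers (x := x) (y := y)).2 hy
    refine ((hcf _ _ (hc i fun hdvd => hne ?_)).symm).trans hv
    obtain ⟨j, rfl⟩ := hdvd
    exact Subtype.ext (by simp [pow_mul, ← hx, pow_orderOf_eq_one])
  have hsum : ∑ y : Subgroup.zpowers x, χ (y : G) = (charDegree χ : ℂ) + ((p - 1 : ℕ) : ℂ) * v := by
    rw [← Finset.sum_erase_add _ _ (Finset.mem_univ (1 : Subgroup.zpowers x)),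
      Finset.sum_congr rfl (fun y hy => hval y (Finset.ne_of_mem_erase hy)), Finset.sum_const,
      Finset.card_erase_of_mem (Finset.mem_univ _), Finset.card_univ, ← Nat.card_eq_fintype_card,
      Nat.card_zpowers, hx, nsmul_eq_mul, Subgroup.coe_one, charDegree_apply_one hχ]
    ring
  have hk' : (charDegree χ : ℂ) + ((p - 1 : ℕ) : ℂ) * v = (p : ℂ) * (k : ℂ) := by
    rw [← hsum, ← hk]
    simp only [Cfsg.classInner, map_one, mul_one, Nat.card_zpowers, hx]
    rw [← mul_assoc, mul_inv_cancel₀ (Nat.cast_ne_zero.2 hp.ne_zero), one_mul]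
  have hk2 : (charDegree χ : ℤ) + ((p - 1 : ℕ) : ℤ) * v = (p : ℤ) * (k : ℤ) := by exact_mod_cast hk'
  rw [Nat.cast_sub hp.pos] at hk2
  exact ⟨v - k, by push_cast at hk2 ⊢; linear_combination -hk2⟩

/-- In a subgroup normaliser realising every automorphism, an element of prime order is conjugate to
all its non-trivial powers. -/
theorem isConj_pow_of_card_normalizer {p : ℕ} (hp : p.Prime) {x : G} (hx : orderOf x = p)
    (hC : Nat.card (Subgroup.centralizer ({x} : Set G)) = p)
    (hN : p * (p - 1) ≤ Nat.card (Subgroup.normalizer (Subgroup.zpowers x : Set G))) (i : ℕ)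
    (hi : ¬ p ∣ i) : IsConj x (x ^ i) := by
  classical
  haveI := Fintype.ofFinite G
  set N := Subgroup.normalizer (Subgroup.zpowers x : Set G) with hNdef
  let f : N → G := fun g => (g : G) * x * (g : G)⁻¹
  let S : Finset G := ((Finset.univ : Finset G).filter fun y => y ∈ Subgroup.zpowers x).erase 1
  have hS : S.card = p - 1 := by
    rw [Finset.card_erase_of_mem (by simp)]
    congr 1
    rw [← hx, ← Nat.card_zpowers, Nat.card_eq_fintype_card, ← Fintype.card_subtype]
  have hsub : Finset.univ.image f ⊆ S := by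
    intro y hy
    obtain ⟨g, -, rfl⟩ := Finset.mem_image.1 hy
    refine Finset.mem_erase.2 ⟨fun e => ?_, Finset.mem_filter.2 ⟨Finset.mem_univ _,
      (Subgroup.mem_normalizer_iff.1 g.2 x).1 (Subgroup.mem_zpowers x)⟩⟩
    have : x = 1 := by simpa using conj_eq_one_iff.1 e
    rw [this, orderOf_one] at hx
    exact hp.ne_one hx.symm
  have hfib : ∀ y ∈ Finset.univ.image f, (Finset.univ.filter fun g => f g = y).card ≤ p := by
    intro y hy
    obtain ⟨g₀, -, rfl⟩ := Finset.mem_image.1 hy
    rw [← hC, Nat.card_eq_fintype_card]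
    rw [← Fintype.card_subtype]
    refine Fintype.card_le_of_injective (fun g => (⟨(g₀ : G)⁻¹ * (g.1 : G), ?_⟩ :
      Subgroup.centralizer ({x} : Set G))) ?_
    · have e : (g.1 : G) * x * (g.1 : G)⁻¹ = (g₀ : G) * x * (g₀ : G)⁻¹ := g.2
      rw [Subgroup.mem_centralizer_singleton_iff]
      calc (g₀ : G)⁻¹ * (g.1 : G) * x
          = (g₀ : G)⁻¹ * ((g.1 : G) * x * (g.1 : G)⁻¹) * (g.1 : G) := by group
        _ = x * ((g₀ : G)⁻¹ * (g.1 : G)) := by rw [e]; group
    · intro a b e
      exact Subtype.ext (Subtype.ext (mul_left_cancel (congrArg Subtype.val e)))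
  have hcard : Fintype.card N ≤ p * (Finset.univ.image f).card :=
    Finset.card_le_mul_card_image _ _ hfib
  have heq : Finset.univ.image f = S := by
    refine Finset.eq_of_subset_of_card_le hsub ?_
    rw [hS]
    rw [← Nat.card_eq_fintype_card] at hcard
    exact Nat.le_of_mul_le_mul_left (hN.trans hcard) hp.pos
  have hmem : x ^ i ∈ S := by
    refine Finset.mem_erase.2 ⟨fun e => hi (hx ▸ orderOf_dvd_of_pow_eq_one e),
      Finset.mem_filter.2 ⟨Finset.mem_univ _, pow_mem (Subgroup.mem_zpowers x) i⟩⟩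
  rw [← heq] at hmem
  obtain ⟨g, -, hg⟩ := Finset.mem_image.1 hmem
  exact isConj_iff.2 ⟨g, hg⟩

end CfsgLib.DegreeGraphSmall
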