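import Cfsg.Agent.Lib.DegreeGraphSmall.Simple

/-!
# A group with the order and the degree graph of a small simple group is simple
-/

namespace CfsgLib.DegreeGraphSmall

open Cfsg CfsgLib.CharTheory

set_option autoImplicit false
set_option linter.unusedVariables false
set_option linter.style.haveILetI false
set_option linter.unusedSectionVars false

universe u v

/-- The primes that occur. -/
def smallPrimes : List ℕ := [2, 3, 5, 7, 11, 13, 17, 19]

theorem mem_smallPrimes {n p : ℕ} (hn : n ∈ smallOrders) (hp : p.Prime) (h : p ∣ n) : p ∈ smallPrimes := by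
  have hN : n ∣ 2 ^ 4 * 3 ^ 3 * 5 * 7 * 11 * 13 * 17 * 19 := by
    simp only [smallOrders, List.mem_cons, List.not_mem_nil, or_false] at hn
    rcases hn with rfl | rfl | rfl | rfl | rfl | rfl | rfl | rfl | rfl | rfl | rfl <;> norm_num
  have hd := h.trans hN
  have hone : ∀ {a k : ℕ}, a.Prime → p ∣ a ^ k → p = a := fun ha hk =>
    (Nat.prime_dvd_prime_iff_eq hp ha).1 (hp.dvd_of_dvd_pow hk)
  have hone' : ∀ {a : ℕ}, a.Prime → p ∣ a → p = a := fun ha hk => (Nat.prime_dvd_prime_iff_eq hp ha).1 hk
  rcases hp.dvd_mul.1 hd with hd | hd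
  rcases hp.dvd_mul.1 hd with hd | hd
  rcases hp.dvd_mul.1 hd with hd | hd
  rcases hp.dvd_mul.1 hd with hd | hd
  rcases hp.dvd_mul.1 hd with hd | hd
  rcases hp.dvd_mul.1 hd with hd | hd
  rcases hp.dvd_mul.1 hd with hd | hd
  · simp [smallPrimes, hone Nat.prime_two hd]
  · simp [smallPrimes, hone Nat.prime_three hd]
  · simp [smallPrimes, hone' (by norm_num : (5 : ℕ).Prime) hd]
  · simp [smallPrimes, hone' (by norm_num : (7 : ℕ).Prime) hd]
  · simp [smallPrimes, hone' (by norm_num : (11 : ℕ).Prime) hd]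
  · simp [smallPrimes, hone' (by norm_num : (13 : ℕ).Prime) hd]
  · simp [smallPrimes, hone' (by norm_num : (17 : ℕ).Prime) hd]
  · simp [smallPrimes, hone' (by norm_num : (19 : ℕ).Prime) hd]

/-- The prime power divisors of `k` that leave room for an element of order `r`. -/
def noRoom (r q b k : ℕ) : Bool :=
  smallPrimes.all fun p => (List.range 13).all fun i =>
    decide (p = r) || decide (i = 0) || decide (k % p ^ i ≠ 0) || decide ((p ^ i - 1) % r ≠ 0) ||
      (decide (p = q) && decide (i = b))

theorem noRoom_spec {n k r q b : ℕ} (hn : n ∈ smallOrders) (hk : k ∣ n) (h : noRoom r q b k = true)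
    (p i : ℕ) (hp : p.Prime) (hpr : p ≠ r) (hi : 1 ≤ i) (hd : p ^ i ∣ k) (hr : r ∣ p ^ i - 1) :
    p = q ∧ i = b := by
  have hpn : p ∈ smallPrimes := mem_smallPrimes hn hp ((dvd_pow_self p (by omega)).trans (hd.trans hk))
  have hn6 : n ≠ 0 ∧ n < 2 ^ 13 := by
    simp only [smallOrders, List.mem_cons, List.not_mem_nil, or_false] at hn
    omega
  have hi13 : i < 13 := by
    by_contra hc
    have h1 : 2 ^ 13 ≤ p ^ i :=
      (Nat.pow_le_pow_left hp.two_le 13).trans (Nat.pow_le_pow_right hp.pos (Nat.le_of_not_lt hc))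
    have h2 : p ^ i ≤ n := Nat.le_of_dvd (Nat.pos_of_ne_zero hn6.1) (hd.trans hk)
    omega
  rw [noRoom, List.all_eq_true] at h
  have h' := List.all_eq_true.1 (h p hpn) i (List.mem_range.2 hi13)
  simp only [Bool.or_eq_true, decide_eq_true_eq, Bool.and_eq_true] at h'
  rcases h' with (((e | e) | e) | e) | e
  · exact absurd e hpr
  · omega
  · exact absurd (Nat.mod_eq_zero_of_dvd hd) e
  · exact absurd (Nat.mod_eq_zero_of_dvd hr) e
  · exact e

/-- The Sylow `r`-subgroup lies in the radical, and is normal. -/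
theorem radical_case {G : Type u} [Group G] [Finite G] {n m r : ℕ} [Fact r.Prime] (hn : n ∈ smallOrders)
    (hG : Nat.card G = n) (R : Subgroup G) [R.Normal] (hR : Group.IsSolvable R) (T : Subgroup (G ⧸ R))
    (hT : Nat.card T = m) (hC : Subgroup.centralizer (T : Set (G ⧸ R)) = ⊥)
    (hrn : r ∣ n) (hr2 : ¬ r ^ 2 ∣ n) (hcheck : noRoom r 0 1 (n / m) = true)
    (hcent : ∀ y : G ⧸ R, orderOf y = r → y ∈ Subgroup.centralizer (T : Set (G ⧸ R))) :
    r ∉ degreePrimes G := by
  classical
  have hrp : r.Prime := Fact.out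
  have hmul := Subgroup.card_eq_card_quotient_mul_card_subgroup R
  rw [hG] at hmul
  have hrQ : ¬ r ∣ Nat.card (G ⧸ R) := by
    intro h
    obtain ⟨y, hy⟩ := exists_prime_orderOf_dvd_card' r h
    have := hcent y hy
    rw [hC, Subgroup.mem_bot] at this
    rw [this, orderOf_one] at hy
    exact hrp.ne_one hy.symm
  have hrR : r ∣ Nat.card R := (hrp.dvd_mul.1 (hmul ▸ hrn)).resolve_left hrQ
  have hRn : Nat.card R ∣ n := Dvd.intro_left _ hmul.symm
  have hRk : Nat.card R ∣ n / m := by
    obtain ⟨t, ht⟩ := hT ▸ Subgroup.card_subgroup_dvd_card T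
    have hm : 0 < m := hT ▸ Nat.card_pos
    rw [hmul, ht, mul_assoc, Nat.mul_div_cancel_left _ hm]
    exact dvd_mul_left _ _
  have hmn : n / m ∣ n := by
    refine Nat.div_dvd_of_dvd ?_
    rw [hmul]
    exact (hT ▸ Subgroup.card_subgroup_dvd_card T).trans (dvd_mul_right _ _)
  have hn0 : 0 < n := hG ▸ Nat.card_pos
  rcases dichotomy_aux (q := 0) (b := 1) _ R rfl hR hrR (fun h => hr2 (h.trans hRn))
    (fun p i hp hpr hi hd hr => noRoom_spec hn hmn hcheck p i hp hpr hi (hd.trans hRk) hr)
    (by simp [Nat.card_pos.ne']) with ⟨A, hA, hc⟩ | ⟨hq, -⟩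
  swap
  · exact absurd hq (by norm_num)
  haveI := hA
  have hB : (A.map R.subtype).Normal := normal_map_subtype (coprime_index (p := r) (c := 1) rfl
    (by rw [hc, pow_one]) fun h => hr2 (h.trans hRn))
  haveI : IsCyclic (A.map R.subtype) := isCyclic_of_prime_card (p := r) (by rw [Subgroup.card_subtype, hc])
  refine not_mem_degreePrimes (A.map R.subtype) (fun a ha b hb => congrArg Subtype.val
    ((IsCyclic.isMulCommutative (α := A.map R.subtype)).is_comm.comm ⟨a, ha⟩ ⟨b, hb⟩)) fun h => hr2 ?_
  rw [← hG, ← (A.map R.subtype).card_mul_index, Subgroup.card_subtype, hc, sq]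
  exact mul_dvd_mul_left r h

/-- An element of order `r` with no room centralises the simple normal subgroup. -/
theorem cent_of_check {Q : Type u} [Group Q] [Finite Q] {n r m : ℕ} [Fact r.Prime] (hn : n ∈ smallOrders)
    (hQ : Nat.card Q ∣ n) (hr2 : ¬ r ^ 2 ∣ n) {T : Subgroup Q} [T.Normal] (hT : Nat.card T = m)
    (hrm : ¬ r ∣ m) (hcheck : noRoom r 0 0 m = true) (y : Q) (hy : orderOf y = r) :
    y ∈ Subgroup.centralizer (T : Set Q) :=
  centralizes_normal hy (fun h => hr2 (h.trans hQ)) (hT ▸ hrm) fun q i hq hi hd hr => by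
    by_cases hqr : q = r
    · exact hrm (hT ▸ hqr ▸ ((dvd_pow_self q (by omega)).trans hd))
    · have h := noRoom_spec hn ((hT ▸ Subgroup.card_subgroup_dvd_card T).trans hQ) hcheck q i hq hqr hi (hT ▸ hd) hr
      exact hq.ne_zero h.1

/-- The solvable case. -/
theorem solvable_case {G : Type u} [Group G] [Finite G] {n r q b : ℕ} [Fact r.Prime] (hn : n ∈ smallOrders)
    (hG : Nat.card G = n) (hsol : Group.IsSolvable G) (hrn : r ∣ n) (hr2 : ¬ r ^ 2 ∣ n)
    (hmax : ¬ q ^ (b + 1) ∣ n) (hcheck : noRoom r q b n = true) :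
    r ∉ degreePrimes G ∨ q ∉ degreePrimes G := by
  subst hG
  rcases degree_prime_dichotomy (q := q) (b := b) hsol hrn hr2
    (fun p i hp hpr hi hd hr => noRoom_spec hn dvd_rfl hcheck p i hp hpr hi hd hr) hmax with
    ⟨A, hA, hab, h⟩ | ⟨A, hA, hab, h⟩
  · exact Or.inl (not_mem_degreePrimes A hab h)
  · exact Or.inr (not_mem_degreePrimes A hab h)

/-- The main theorem. -/
theorem nonempty_mulEquiv {S : Type u} [Group S] [Finite S] [IsSimpleGroup S] (hS : ¬ IsMulCommutative S)
    (hlt : Nat.card S < 6000) {G : Type v} [Group G] [Finite G] (hcard : Nat.card G = Nat.card S)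
    (hp : degreePrimes G = degreePrimes S) (ha : degreeGraph G = degreeGraph S) : Nonempty (G ≃* S) := by
  classical
  haveI : Fact (Nat.Prime 5) := ⟨by norm_num⟩
  haveI : Fact (Nat.Prime 7) := ⟨by norm_num⟩
  haveI : Fact (Nat.Prime 11) := ⟨by norm_num⟩
  haveI : Fact (Nat.Prime 13) := ⟨by norm_num⟩
  haveI : Fact (Nat.Prime 17) := ⟨by norm_num⟩
  haveI : Fact (Nat.Prime 19) := ⟨by norm_num⟩
  obtain ⟨n, hSn⟩ : ∃ n, Nat.card S = n := ⟨_, rfl⟩
  have hn : n ∈ smallOrders := hSn ▸ simple_mem hS hlt
  have hG : Nat.card G = n := hcard.trans hSn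
  obtain ⟨hmem, h360, h504⟩ := facts hn hSn
  rw [← hp] at hmem
  rw [← ha] at h360 h504
  suffices hs : IsSimpleGroup G by exact iso_of_card hn hG hSn
  by_cases hsol : Group.IsSolvable G
  · exfalso
    simp only [smallOrders, List.mem_cons, List.not_mem_nil, or_false] at hn
    rcases hn with rfl | rfl | rfl | rfl | rfl | rfl | rfl | rfl | rfl | rfl | rfl <;>
      simp only [List.mem_cons, List.not_mem_nil, or_false, forall_eq_or_imp, forall_eq] at hmem
    · exact (solvable_case (r := 5) (q := 5) (b := 1) (by decide) hG hsol (by norm_num) (by norm_num)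
        (by norm_num) (by decide +kernel)).elim (fun h => h hmem) (fun h => h hmem)
    · exact (solvable_case (r := 7) (q := 2) (b := 3) (by decide) hG hsol (by norm_num) (by norm_num)
        (by norm_num) (by decide +kernel)).elim (fun h => h hmem.1) (fun h => h hmem.2)
    · exact (solvable_case (r := 5) (q := 5) (b := 1) (by decide) hG hsol (by norm_num) (by norm_num)
        (by norm_num) (by decide +kernel)).elim (fun h => h hmem) (fun h => h hmem)
    · exact (solvable_case (r := 7) (q := 2) (b := 3) (by decide) hG hsol (by norm_num) (by norm_num)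
        (by norm_num) (by decide +kernel)).elim (fun h => h hmem.1) (fun h => h hmem.2)
    · exact (solvable_case (r := 11) (q := 11) (b := 1) (by decide) hG hsol (by norm_num) (by norm_num)
        (by norm_num) (by decide +kernel)).elim (fun h => h hmem) (fun h => h hmem)
    · exact (solvable_case (r := 13) (q := 13) (b := 1) (by decide) hG hsol (by norm_num) (by norm_num)
        (by norm_num) (by decide +kernel)).elim (fun h => h hmem) (fun h => h hmem)
    · exact (solvable_case (r := 17) (q := 17) (b := 1) (by decide) hG hsol (by norm_num) (by norm_num)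
        (by norm_num) (by decide +kernel)).elim (fun h => h hmem) (fun h => h hmem)
    · exact (solvable_case (r := 5) (q := 5) (b := 1) (by decide) hG hsol (by norm_num) (by norm_num)
        (by norm_num) (by decide +kernel)).elim (fun h => h hmem.1) (fun h => h hmem.1)
    · exact (solvable_case (r := 19) (q := 19) (b := 1) (by decide) hG hsol (by norm_num) (by norm_num)
        (by norm_num) (by decide +kernel)).elim (fun h => h hmem) (fun h => h hmem)
    · exact (solvable_case (r := 17) (q := 17) (b := 1) (by decide) hG hsol (by norm_num) (by norm_num)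
        (by norm_num) (by decide +kernel)).elim (fun h => h hmem) (fun h => h hmem)
    · exact (solvable_case (r := 13) (q := 3) (b := 3) (by decide) hG hsol (by norm_num) (by norm_num)
        (by norm_num) (by decide +kernel)).elim (fun h => h hmem.1) (fun h => h hmem.2)
  obtain ⟨R, hRn, T, hR, hTn, hTs, hTna, hTm, hC, hsimp⟩ := exists_section hn hG hsol
  haveI := hTn
  haveI := hTs
  have hmul := Subgroup.card_eq_card_quotient_mul_card_subgroup R
  rw [hG] at hmul
  have hdvd : Nat.card T ∣ n := by
    rw [hmul]; exact (Subgroup.card_subgroup_dvd_card T).trans (dvd_mul_right _ _)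
  obtain ⟨m, hTc⟩ : ∃ m, Nat.card T = m := ⟨_, rfl⟩
  rw [hTc] at hdvd hTm
  have hQn : Nat.card (G ⧸ R) ∣ n := Dvd.intro _ hmul.symm
  have hpairs : ∀ a ∈ smallOrders, ∀ c ∈ smallOrders, c ∣ a → c = a ∨ (a, c) ∈ [(360, 60), (504, 168),
      (660, 60), (2520, 60), (2520, 168), (2520, 360), (2520, 504), (3420, 60), (4080, 60)] := by
    decide +kernel
  rcases hpairs n hn m hTm hdvd with rfl | h
  · have h1 : m ∣ Nat.card (G ⧸ R) := hTc ▸ Subgroup.card_subgroup_dvd_card T
    have h2 : Nat.card (G ⧸ R) = m := Nat.dvd_antisymm hQn h1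
    have hR1 : Nat.card R = 1 := by
      have hm : 0 < m := hTc ▸ Nat.card_pos
      rw [h2] at hmul
      exact (Nat.mul_left_cancel hm (by omega : m * 1 = m * Nat.card R)).symm
    exact hsimp ((Subgroup.card_eq_iff_eq_top T).1 (hTc.trans h2.symm)) (Subgroup.card_eq_one.1 hR1)
  exfalso
  simp only [List.mem_cons, List.not_mem_nil, or_false, Prod.mk.injEq] at h
  rcases h with ⟨rfl, rfl⟩ | ⟨rfl, rfl⟩ | ⟨rfl, rfl⟩ | ⟨rfl, rfl⟩ | ⟨rfl, rfl⟩ | ⟨rfl, rfl⟩ | ⟨rfl, rfl⟩ |
      ⟨rfl, rfl⟩ | ⟨rfl, rfl⟩ <;>
    simp only [List.mem_cons, List.not_mem_nil, or_false, forall_eq_or_imp, forall_eq] at hmem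
  · exact (adj_360 R T hTna hG hTc hC).elim (h360 rfl).1 (fun h => h (h360 rfl).2)
  · exact h504 rfl (adj_two_three_504 R T hG hTc hC)
  · exact radical_case (r := 11) hn hG R hR T hTc hC (by norm_num) (by norm_num) (by decide +kernel)
      (fun y hy => cent_of_check hn hQn (by norm_num) hTc (by norm_num) (by decide +kernel) y hy) hmem
  · exact radical_case (r := 7) hn hG R hR T hTc hC (by norm_num) (by norm_num) (by decide +kernel)
      (fun y hy => cent_of_check hn hQn (by norm_num) hTc (by norm_num) (by decide +kernel) y hy) hmem.2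
  · exact radical_case (r := 5) hn hG R hR T hTc hC (by norm_num) (by norm_num) (by decide +kernel)
      (fun y hy => cent_of_check hn hQn (by norm_num) hTc (by norm_num) (by decide +kernel) y hy) hmem.1
  · exact radical_case (r := 7) hn hG R hR T hTc hC (by norm_num) (by norm_num) (by decide +kernel)
      (fun y hy => centralizes_three_sixty hy (fun h => by have := h.trans hQn; norm_num at this) hTc) hmem.2
  · exact radical_case (r := 5) hn hG R hR T hTc hC (by norm_num) (by norm_num) (by decide +kernel)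
      (fun y hy => cent_of_check hn hQn (by norm_num) hTc (by norm_num) (by decide +kernel) y hy) hmem.1
  · exact radical_case (r := 19) hn hG R hR T hTc hC (by norm_num) (by norm_num) (by decide +kernel)
      (fun y hy => cent_of_check hn hQn (by norm_num) hTc (by norm_num) (by decide +kernel) y hy) hmem
  · exact radical_case (r := 17) hn hG R hR T hTc hC (by norm_num) (by norm_num) (by decide +kernel)
      (fun y hy => cent_of_check hn hQn (by norm_num) hTc (by norm_num) (by decide +kernel) y hy) hmem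

end CfsgLib.DegreeGraphSmall
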