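import Cfsg.Agent.Lib.SmallOrders.RangeLow
import Cfsg.Agent.Lib.Components
import Cfsg.Agent.S0496
import Cfsg.Agent.S0983

/-!
# Non-solvable groups whose order is that of a small simple group
-/

namespace CfsgLib.DegreeGraphSmall

open Cfsg
open scoped Pointwise

set_option autoImplicit false
set_option linter.unusedVariables false
set_option linter.style.haveILetI false
set_option linter.unusedSectionVars false

universe u

/-- The orders of the simple groups of order less than 6000. -/
def smallOrders : List ℕ := [60, 168, 360, 504, 660, 1092, 2448, 2520, 3420, 4080, 5616]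

theorem simple_mem {X : Type u} [Group X] [Finite X] [IsSimpleGroup X] (hX : ¬ IsMulCommutative X)
    (h : Nat.card X < 6000) : Nat.card X ∈ smallOrders := by
  simp only [smallOrders, List.mem_cons, List.not_mem_nil, or_false]
  rcases Nat.lt_or_ge (Nat.card X) 1093 with h1 | h1
  · rcases Cfsg.Agent.S0496.result hX (by omega) with e | e | e | e | e | e <;> omega
  rcases Nat.lt_or_ge (Nat.card X) 3641 with h2 | h2
  · rcases SmallOrders.mem_orders_low hX h1 (by omega) with e | e | e <;> omega
  rcases Cfsg.Agent.S0983.result hX (by omega) (by omega) with e | e | e | e <;> omega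

theorem exists_dvd_aux : ∀ (k : ℕ) (X : Type u) [Group X] [Finite X], Nat.card X = k → k < 6000 →
    ¬ Group.IsSolvable X → ∃ m ∈ smallOrders, m ∣ k := by
  intro k
  induction k using Nat.strong_induction_on with
  | _ k ih =>
    intro X _ _ hk hlt hns
    haveI : Nontrivial X := not_subsingleton_iff_nontrivial.1 fun h => hns inferInstance
    by_cases hs : IsSimpleGroup X
    · exact ⟨k, hk ▸ simple_mem (fun hc => hns (by
        letI : CommGroup X := { (inferInstance : Group X) with mul_comm := hc.is_comm.comm }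
        exact inferInstance)) (hk ▸ hlt), dvd_rfl⟩
    obtain ⟨N, hN, hN1, hN2⟩ : ∃ N : Subgroup X, N.Normal ∧ N ≠ ⊥ ∧ N ≠ ⊤ := by
      by_contra hc
      push Not at hc
      exact hs { eq_bot_or_eq_top_of_normal := fun N hN => or_iff_not_imp_left.2 (hc N hN) }
    haveI := hN
    have hmul := Subgroup.card_eq_card_quotient_mul_card_subgroup N
    rw [hk] at hmul
    have hN1' : 1 < Nat.card N := (Subgroup.one_lt_card_iff_ne_bot N).2 hN1
    by_cases hNs : Group.IsSolvable N
    · have hq : ¬ Group.IsSolvable (X ⧸ N) := fun hq => hns (solvable_of_ker_le_range N.subtype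
        (QuotientGroup.mk' N) (by rw [QuotientGroup.ker_mk', Subgroup.range_subtype]))
      have hql : Nat.card (X ⧸ N) < k := by
        rw [hmul]
        exact lt_mul_of_one_lt_right Nat.card_pos hN1'
      obtain ⟨m, hm, hd⟩ := ih _ hql (X ⧸ N) rfl (by omega) hq
      exact ⟨m, hm, hd.trans (Dvd.intro _ hmul.symm)⟩
    · have hql : Nat.card N < k := by
        refine lt_of_le_of_ne (hk ▸ Subgroup.card_le_card_group N) fun e => hN2 ?_
        exact Subgroup.eq_top_of_card_eq N (e.trans hk.symm)
      obtain ⟨m, hm, hd⟩ := ih _ hql N rfl (by omega) hNs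
      exact ⟨m, hm, hd.trans (hk ▸ Subgroup.card_subgroup_dvd_card N)⟩

/-- The order of a non-solvable group is a multiple of one of these orders. -/
theorem exists_dvd {X : Type u} [Group X] [Finite X] (hlt : Nat.card X < 6000)
    (hns : ¬ Group.IsSolvable X) : ∃ m ∈ smallOrders, m ∣ Nat.card X :=
  exists_dvd_aux _ X rfl hlt hns

theorem no_product : smallOrders.all (fun n => smallOrders.all fun a => smallOrders.all fun b =>
    decide (n % (a * b) ≠ 0)) = true := by decide +kernel

/-- Two non-solvable direct factors do not fit. -/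
theorem false_of_pair {X : Type u} [Group X] [Finite X] {n : ℕ} (hn : n ∈ smallOrders)
    (hX : Nat.card X ∣ n) {A B : Subgroup X} (hAB : ∀ a ∈ A, ∀ b ∈ B, Commute a b) (hd : Disjoint A B)
    (hA : ¬ Group.IsSolvable A) (hB : ¬ Group.IsSolvable B) : False := by
  have hlt : n < 6000 := by
    simp only [smallOrders, List.mem_cons, List.not_mem_nil, or_false] at hn
    omega
  have hXle : Nat.card X ≤ n := Nat.le_of_dvd (by
    simp only [smallOrders, List.mem_cons, List.not_mem_nil, or_false] at hn
    omega) hX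
  obtain ⟨a, ha, had⟩ := exists_dvd (X := A) (by have := Subgroup.card_le_card_group A; omega) hA
  obtain ⟨b, hb, hbd⟩ := exists_dvd (X := B) (by have := Subgroup.card_le_card_group B; omega) hB
  let f : A × B →* X := A.subtype.noncommCoprod B.subtype fun x y => hAB x x.2 y y.2
  have hinj : Function.Injective f := by
    refine (injective_iff_map_eq_one f).2 fun z hz => ?_
    have h1 : (z.1 : X) * z.2 = 1 := hz
    have h2 : (z.1 : X) ∈ A ⊓ B := ⟨z.1.2, by rw [eq_inv_of_mul_eq_one_left h1]; exact B.inv_mem z.2.2⟩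
    rw [hd.eq_bot, Subgroup.mem_bot] at h2
    rw [h2, one_mul] at h1
    exact Prod.ext (Subtype.ext h2) (Subtype.ext h1)
  have h3 := Subgroup.card_dvd_of_injective f hinj
  rw [Nat.card_prod] at h3
  have h4 : a * b ∣ n := (Nat.mul_dvd_mul had hbd).trans (h3.trans hX)
  have := List.all_eq_true.1 (List.all_eq_true.1 (List.all_eq_true.1 no_product n hn) a ha) b hb
  rw [decide_eq_true_eq] at this
  exact this (Nat.mod_eq_zero_of_dvd h4)

/-- The shape of a non-solvable group of such an order. -/
theorem exists_section {G : Type u} [Group G] [Finite G] {n : ℕ} (hn : n ∈ smallOrders)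
    (hG : Nat.card G = n) (hns : ¬ Group.IsSolvable G) :
    ∃ (R : Subgroup G) (_ : R.Normal) (T : Subgroup (G ⧸ R)), Group.IsSolvable R ∧ T.Normal ∧
      IsSimpleGroup T ∧ ¬ IsMulCommutative T ∧ Nat.card T ∈ smallOrders ∧
      Subgroup.centralizer (T : Set (G ⧸ R)) = ⊥ ∧
      (T = ⊤ → R = ⊥ → IsSimpleGroup G) := by
  classical
  set R := solvableRadical G with hR
  have hRs : Group.IsSolvable R := isSolvable_solvableRadical
  haveI : R.Normal := solvableRadical_normal
  have hn6 : n < 6000 := by
    simp only [smallOrders, List.mem_cons, List.not_mem_nil, or_false] at hn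
    omega
  have hQdvd : Nat.card (G ⧸ R) ∣ n :=
    hG ▸ Dvd.intro _ (Subgroup.card_eq_card_quotient_mul_card_subgroup R).symm
  have hQle : Nat.card (G ⧸ R) < 6000 := lt_of_le_of_lt (Nat.le_of_dvd (by
    simp only [smallOrders, List.mem_cons, List.not_mem_nil, or_false] at hn
    omega) hQdvd) hn6
  -- no solvable normal subgroup above the radical
  have hno : ∀ W : Subgroup (G ⧸ R), W.Normal → Group.IsSolvable W → W = ⊥ := by
    intro W hW hWs
    have h1 : Group.IsSolvable (W.comap (QuotientGroup.mk' R)) := by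
      haveI := hRs
      haveI := hWs
      refine solvable_of_ker_le_range (Subgroup.inclusion (show R ≤ W.comap (QuotientGroup.mk' R) from
        fun r hr => by
          rw [Subgroup.mem_comap, QuotientGroup.mk'_apply, (QuotientGroup.eq_one_iff r).2 hr]
          exact one_mem W))
        ((QuotientGroup.mk' R).subgroupComap W) fun y hy => ?_
      refine ⟨⟨(y : G), ?_⟩, rfl⟩
      exact (QuotientGroup.eq_one_iff (y : G)).1 (congrArg Subtype.val (MonoidHom.mem_ker.1 hy))
    haveI := hW.comap (QuotientGroup.mk' R)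
    have h2 := le_solvableRadical h1
    rw [eq_bot_iff]
    intro w hw
    obtain ⟨g, rfl⟩ := QuotientGroup.mk'_surjective R w
    rw [Subgroup.mem_bot, QuotientGroup.mk'_apply, QuotientGroup.eq_one_iff]
    exact h2 hw
  haveI : Nontrivial (G ⧸ R) := by
    rw [← not_subsingleton_iff_nontrivial]
    intro h
    haveI := hRs
    exact hns (solvable_of_ker_le_range R.subtype (QuotientGroup.mk' R)
      (by rw [QuotientGroup.ker_mk', Subgroup.range_subtype]))
  obtain ⟨T, hTn, -, hT0, hTmin⟩ := exists_minimal_normal (N := (⊤ : Subgroup (G ⧸ R))) top_ne_bot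
  haveI := hTn
  have hTs : ¬ Group.IsSolvable T := fun h => hT0 (hno T hTn h)
  haveI : Nontrivial T := T.nontrivial_iff_ne_bot.2 hT0
  have hTsimple : IsSimpleGroup T := by
    obtain ⟨M, hMn, -, hM0, hMmin⟩ := exists_minimal_normal (N := (⊤ : Subgroup T)) top_ne_bot
    haveI := hMn
    have hMs : ¬ Group.IsSolvable M := fun h => by
      have h1 := le_solvableRadical h
      have h2 : (solvableRadical T).map T.subtype = ⊥ := hno _ inferInstance (by
        haveI := isSolvable_solvableRadical (G := T)
        exact Group.isSolvable_of_surjective (T.subtype.subgroupMap_surjective _))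
      exact hM0 (eq_bot_iff.2 (h1.trans ((Subgroup.map_eq_bot_iff_of_injective _ T.subtype_injective).1 h2).le))
    by_cases hMtop : M = ⊤
    · exact { eq_bot_or_eq_top_of_normal := fun K hK => by
                rcases hMmin K hK (hMtop ▸ le_top) with e | e
                · exact Or.inl e
                · exact Or.inr (e.trans hMtop) }
    exfalso
    by_cases hall : ∀ g : G ⧸ R, M.map (MulAut.conjNormal g : MulAut T).toMonoidHom = M
    · have hMQ : (M.map T.subtype).Normal := ⟨fun m hm g => by
        obtain ⟨m, hm, rfl⟩ := hm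
        exact ⟨(MulAut.conjNormal g : MulAut T) m, (hall g).le ⟨m, hm, rfl⟩, by simp⟩⟩
      rcases hTmin _ hMQ (Subgroup.map_subtype_le M) with e | e
      · exact hM0 ((Subgroup.map_eq_bot_iff_of_injective _ T.subtype_injective).1 e)
      · refine hMtop (Subgroup.map_injective T.subtype_injective ?_)
        rw [e, ← MonoidHom.range_eq_map, Subgroup.range_subtype]
    · push Not at hall
      obtain ⟨g, hg⟩ := hall
      set f : MulAut T := MulAut.conjNormal g
      set M' := M.map f.toMonoidHom with hM'
      have hM'n : M'.Normal := hMn.map f.toMonoidHom f.surjective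
      have hd : Disjoint M M' := by
        rw [disjoint_iff]
        refine (hMmin (M ⊓ M') inferInstance inf_le_left).resolve_right fun e => hg ?_
        have hle : M ≤ M' := e ▸ inf_le_right
        exact (Subgroup.eq_of_le_of_card_ge hle (by
          exact (Subgroup.card_map_of_injective (K := M) (f := f.toMonoidHom) f.injective).le)).symm
      refine false_of_pair hn (Subgroup.card_subgroup_dvd_card T |>.trans hQdvd) (A := M) (B := M')
        (fun a ha b hb => Subgroup.commute_of_normal_of_disjoint M M' hMn hM'n hd a b ha hb) hd hMs fun h => hMs ?_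
      haveI := h
      exact solvable_of_solvable_injective
        (f := (M.equivMapOfInjective f.toMonoidHom f.injective).toMonoidHom) (MulEquiv.injective _)
  have hTna : ¬ IsMulCommutative T := fun hc => hTs (by
    letI : CommGroup T := { (inferInstance : Group T) with mul_comm := hc.is_comm.comm }
    exact inferInstance)
  refine ⟨R, inferInstance, T, hRs, hTn, hTsimple, hTna,
    simple_mem hTna (lt_of_le_of_lt (Subgroup.card_le_card_group T) hQle), ?_, fun hTtop hRbot => ?_⟩
  · by_contra hC
    set C := Subgroup.centralizer (T : Set (G ⧸ R)) with hCdef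
    haveI : C.Normal := Subgroup.normal_centralizer
    have hCs : ¬ Group.IsSolvable C := fun h => hC (hno C inferInstance h)
    have hd : Disjoint T C := by
      rw [disjoint_iff]
      refine (hTmin (T ⊓ C) inferInstance inf_le_left).resolve_right fun e => hTna ?_
      exact ⟨⟨fun a b => Subtype.ext (Subgroup.mem_centralizer_iff.1 ((e ▸ inf_le_right : T ≤ C) b.2) a a.2)⟩⟩
    exact false_of_pair hn hQdvd (fun a ha b hb => Subgroup.mem_centralizer_iff.1 hb a ha) hd hTs hCs
  · haveI := hTsimple
    let e₁ : T ≃* G ⧸ R := (MulEquiv.subgroupCongr hTtop).trans Subgroup.topEquiv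
    let e₂ : G ⧸ R ≃* G := (QuotientGroup.quotientMulEquivOfEq hRbot).trans QuotientGroup.quotientBot
    exact (e₁.trans e₂).symm.isSimpleGroup

/-! ### Coprime action of an element of prime order -/

section Action

variable {G : Type u} [Group G] [Finite G] {p : ℕ} [hpf : Fact p.Prime] {x : G}

/-- The points of a `q`-subgroup fixed by an element of order `p` normalising it. -/
theorem fixed_dichotomy (hx : orderOf x = p) {q b : ℕ} (hq : q.Prime) (hqp : q ≠ p) {Q : Subgroup G}
    (hQ : Nat.card Q = q ^ b) (hn : x ∈ Subgroup.normalizer (Q : Set G)) :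
    ∃ j ≤ b, Nat.card (Q ⊓ Subgroup.centralizer ({x} : Set G) : Subgroup G) = q ^ j ∧
      p ∣ q ^ (b - j) - 1 := by
  classical
  letI : MulAction (Subgroup.zpowers x) Q :=
    { smul := fun g a => ⟨(g : G) * a * (g : G)⁻¹,
        (Subgroup.mem_normalizer_iff.1 (Subgroup.zpowers_le.2 hn g.2) a).1 a.2⟩
      one_smul := fun a => Subtype.ext (by show (1 : G) * a * (1 : G)⁻¹ = a; group)
      mul_smul := fun g g' a => Subtype.ext (by
        show ((g * g' : Subgroup.zpowers x) : G) * a * ((g * g' : Subgroup.zpowers x) : G)⁻¹ =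
          (g : G) * ((g' : G) * a * (g' : G)⁻¹) * (g : G)⁻¹
        rw [Subgroup.coe_mul]; group) }
  have hP : IsPGroup p (Subgroup.zpowers x) := IsPGroup.of_card (n := 1) (by rw [Nat.card_zpowers, hx, pow_one])
  have hmod := hP.card_modEq_card_fixedPoints Q
  have hfix : Nat.card (MulAction.fixedPoints (Subgroup.zpowers x) Q) =
      Nat.card (Q ⊓ Subgroup.centralizer ({x} : Set G) : Subgroup G) := by
    refine Nat.card_congr
      { toFun := fun a => ⟨(a : Q), (a : Q).2, Subgroup.mem_centralizer_singleton_iff.2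
          (mul_inv_eq_iff_eq_mul.1 (congrArg Subtype.val (a.2 ⟨x, Subgroup.mem_zpowers x⟩))).symm⟩
        invFun := fun a => ⟨⟨a, a.2.1⟩, fun g => ?_⟩
        left_inv := fun a => rfl
        right_inv := fun a => rfl }
    obtain ⟨k, hk⟩ := g.2
    refine Subtype.ext ?_
    show (g : G) * a * (g : G)⁻¹ = a
    have hc : Commute x (a : G) := (Subgroup.mem_centralizer_singleton_iff.1 a.2.2).symm
    rw [← hk, (hc.zpow_left k).eq, mul_inv_cancel_right]
  obtain ⟨j, hj, hjc⟩ := (Nat.dvd_prime_pow hq).1
    (hQ ▸ Subgroup.card_dvd_of_le (inf_le_left : Q ⊓ Subgroup.centralizer ({x} : Set G) ≤ Q))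
  refine ⟨j, hj, hjc, ?_⟩
  rw [hfix, hjc, hQ] at hmod
  have hd : p ∣ q ^ b - q ^ j := (Nat.modEq_iff_dvd' (Nat.pow_le_pow_right hq.pos hj)).1 hmod.symm
  rw [show q ^ b - q ^ j = q ^ j * (q ^ (b - j) - 1) by
    rw [Nat.mul_sub, mul_one, ← pow_add, Nat.add_sub_cancel' hj]] at hd
  refine (hpf.out.dvd_mul.1 hd).resolve_left fun h => hqp ?_
  exact ((Nat.prime_dvd_prime_iff_eq hpf.out hq).1 (hpf.out.dvd_of_dvd_pow h)).symm

/-- A `q`-subgroup normalised by `x` is centralised when `p` divides no `q^i - 1`. -/
theorem le_centralizer_of_invariant (hx : orderOf x = p) {q b : ℕ} (hq : q.Prime) (hqp : q ≠ p)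
    {Q : Subgroup G} (hQ : Nat.card Q = q ^ b) (hn : x ∈ Subgroup.normalizer (Q : Set G))
    (hok : ∀ i, 1 ≤ i → i ≤ b → ¬ p ∣ q ^ i - 1) : Q ≤ Subgroup.centralizer ({x} : Set G) := by
  obtain ⟨j, hj, hjc, hd⟩ := fixed_dichotomy hx hq hqp hQ hn
  rcases hj.eq_or_lt with rfl | h
  · exact inf_eq_left.1 (Subgroup.eq_of_le_of_card_ge inf_le_left (by rw [hjc, hQ]))
  · exact absurd hd (hok (b - j) (by omega) (Nat.sub_le _ _))

/-- Each Sylow order of a normal `p'`-subgroup, for which `x` has no room to act, divides the order of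
its fixed points. -/
theorem pow_dvd_fixed (hx : orderOf x = p) (hp2 : ¬ p ^ 2 ∣ Nat.card G) {N : Subgroup G} [N.Normal]
    (hpN : ¬ p ∣ Nat.card N) {q : ℕ} (hq : q.Prime)
    (hok : ∀ i, 1 ≤ i → q ^ i ∣ Nat.card N → ¬ p ∣ q ^ i - 1) :
    q ^ (Nat.card N).factorization q ∣ Nat.card (N ⊓ Subgroup.centralizer ({x} : Set G) : Subgroup G) := by
  classical
  haveI : Fact q.Prime := ⟨hq⟩
  obtain ⟨S⟩ : Nonempty (Sylow q N) := inferInstance
  set Q := (S : Subgroup N).map N.subtype with hQdef
  have hQ : Nat.card Q = q ^ (Nat.card N).factorization q := by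
    rw [hQdef, Subgroup.card_subtype]; exact S.card_eq_multiplicity
  rcases Nat.eq_zero_or_pos ((Nat.card N).factorization q) with h0 | h0
  · rw [h0, pow_zero]; exact one_dvd _
  have hqN : q ∣ Nat.card N := (dvd_pow_self q h0.ne').trans (Nat.ordProj_dvd _ q)
  have hqp : q ≠ p := fun e => hpN (e ▸ hqN)
  set H := Subgroup.normalizer (Q : Set G) with hH
  have hsup : H ⊔ N = ⊤ := Sylow.normalizer_sup_eq_top S
  have hidx : H.index ∣ Nat.card N := by
    have h1 : N.index ∣ Nat.card H := by
      rw [← Subgroup.relIndex_top_right, ← hsup, Subgroup.relIndex_sup_right]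
      exact Subgroup.relIndex_dvd_card _ _
    have h2 : H.index * Nat.card H ∣ Nat.card N * Nat.card H := by
      rw [H.index_mul_card, ← N.card_mul_index]
      exact mul_dvd_mul_left _ h1
    exact Nat.dvd_of_mul_dvd_mul_right Nat.card_pos h2
  have hpG : p ∣ Nat.card G := hx ▸ orderOf_dvd_natCard x
  have hpH : p ∣ Nat.card H :=
    (hpf.out.dvd_mul.1 (H.card_mul_index ▸ hpG)).resolve_right fun h => hpN (h.trans hidx)
  obtain ⟨y, hy⟩ := exists_prime_orderOf_dvd_card' p hpH
  have hy' : orderOf (y : G) = p := by rw [Subgroup.orderOf_coe, hy]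
  have hQC : Q ≤ Subgroup.centralizer ({(y : G)} : Set G) :=
    le_centralizer_of_invariant hy' hq hqp hQ y.2 fun i h1 h2 =>
      hok i h1 ((pow_dvd_pow q h2).trans (Nat.ordProj_dvd _ q))
  -- move `y` onto `x`
  have hsyl : ∀ z : G, orderOf z = p → ∃ P : Sylow p G, Subgroup.zpowers z = (P : Subgroup G) := by
    intro z hz
    obtain ⟨P, hP⟩ := (IsPGroup.of_card (n := 1) (by rw [Nat.card_zpowers, hz, pow_one]) :
      IsPGroup p (Subgroup.zpowers z)).exists_le_sylow
    refine ⟨P, Subgroup.eq_of_le_of_card_ge hP ?_⟩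
    rw [Nat.card_zpowers, hz]
    exact (SmallOrder.card_sylow_eq (k := 1) P (by rw [pow_one]; exact hpG) hp2).le.trans (pow_one p).le
  obtain ⟨P, hP⟩ := hsyl x hx
  obtain ⟨P', hP'⟩ := hsyl (y : G) hy'
  obtain ⟨g, hg⟩ := MulAction.exists_smul_eq G P' P
  have hxm : x ∈ MulAut.conj g • (P' : Subgroup G) := by
    rw [← Sylow.coe_subgroup_smul, hg, ← hP]; exact Subgroup.mem_zpowers x
  rw [← hP'] at hxm
  obtain ⟨w, ⟨k, hk⟩, hw⟩ := hxm
  have hle : Q.map (MulAut.conj g).toMonoidHom ≤ N ⊓ Subgroup.centralizer ({x} : Set G) := by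
    rintro _ ⟨c, hc, rfl⟩
    refine ⟨(inferInstance : N.Normal).conj_mem c (Subgroup.map_subtype_le _ hc) g, ?_⟩
    refine Subgroup.mem_centralizer_singleton_iff.2 ?_
    have hcomm : Commute c w := by
      rw [← hk]
      exact (show Commute c (y : G) from Subgroup.mem_centralizer_singleton_iff.1 (hQC hc)).zpow_right k
    have hw' : x = g * w * g⁻¹ := hw.symm
    show g * c * g⁻¹ * x = x * (g * c * g⁻¹)
    rw [hw', conj_mul, conj_mul, hcomm.eq]
  have := Subgroup.card_dvd_of_le hle
  rwa [Subgroup.card_map_of_injective (MulAut.conj g).injective, hQ] at this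

/-- `x` centralises a normal `p'`-subgroup when it has no room to act on any Sylow subgroup. -/
theorem centralizes_normal (hx : orderOf x = p) (hp2 : ¬ p ^ 2 ∣ Nat.card G) {N : Subgroup G} [N.Normal]
    (hpN : ¬ p ∣ Nat.card N)
    (hok : ∀ q i : ℕ, q.Prime → 1 ≤ i → q ^ i ∣ Nat.card N → ¬ p ∣ q ^ i - 1) :
    x ∈ Subgroup.centralizer (N : Set G) := by
  have hdvd : Nat.card N ∣ Nat.card (N ⊓ Subgroup.centralizer ({x} : Set G) : Subgroup G) := by
    refine (Nat.factorization_le_iff_dvd Nat.card_pos.ne' Nat.card_pos.ne').1 fun q => ?_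
    by_cases hq : q.Prime
    · exact (hq.pow_dvd_iff_le_factorization Nat.card_pos.ne').1 (pow_dvd_fixed hx hp2 hpN hq (hok q · hq))
    · simp [Nat.factorization_eq_zero_of_not_prime _ hq]
  have h := Subgroup.eq_of_le_of_card_ge inf_le_left (Nat.le_of_dvd Nat.card_pos hdvd)
  refine Subgroup.mem_centralizer_iff.2 fun c hc => ?_
  exact Subgroup.mem_centralizer_singleton_iff.1 (h.ge hc).2

/-- An element of order seven centralises a normal simple subgroup of order 360. -/
theorem centralizes_three_sixty [Fact (Nat.Prime 7)] (hx : orderOf x = 7) (hp2 : ¬ 7 ^ 2 ∣ Nat.card G)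
    {T : Subgroup G} [T.Normal] [IsSimpleGroup T] (hT : Nat.card T = 360) :
    x ∈ Subgroup.centralizer (T : Set G) := by
  classical
  haveI : Fact (Nat.Prime 5) := ⟨by norm_num⟩
  have h7 : ¬ 7 ∣ Nat.card T := by rw [hT]; norm_num
  set C := T ⊓ Subgroup.centralizer ({x} : Set G) with hC
  have e : Nat.card T = 2 ^ 3 * (3 ^ 2 * 5 ^ 1) := by rw [hT]; norm_num
  have hf3 : (Nat.card T).factorization 3 = 2 := by
    rw [e, Nat.factorization_mul (by norm_num) (by norm_num), Nat.factorization_mul (by norm_num) (by norm_num),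
      Nat.Prime.factorization_pow Nat.prime_two, Nat.Prime.factorization_pow Nat.prime_three,
      Nat.Prime.factorization_pow Nat.prime_five]
    simp
  have hf5 : (Nat.card T).factorization 5 = 1 := by
    rw [e, Nat.factorization_mul (by norm_num) (by norm_num), Nat.factorization_mul (by norm_num) (by norm_num),
      Nat.Prime.factorization_pow Nat.prime_two, Nat.Prime.factorization_pow Nat.prime_three,
      Nat.Prime.factorization_pow Nat.prime_five]
    simp
  have h9 : 9 ∣ Nat.card C := by
    have := pow_dvd_fixed hx hp2 h7 Nat.prime_three fun i h1 h2 => by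
      have h3 : i ≤ 2 := hf3 ▸ (Nat.prime_three.pow_dvd_iff_le_factorization Nat.card_pos.ne').1 h2
      interval_cases i <;> norm_num
    rwa [hf3] at this
  have h5 : 5 ∣ Nat.card C := by
    have := pow_dvd_fixed hx hp2 h7 Nat.prime_five fun i h1 h2 => by
      have h3 : i ≤ 1 := hf5 ▸ (Nat.prime_five.pow_dvd_iff_le_factorization Nat.card_pos.ne').1 h2
      interval_cases i; norm_num
    rwa [hf5, pow_one] at this
  have h45 : 45 ∣ Nat.card C := Nat.Coprime.mul_dvd_of_dvd_of_dvd (m := 9) (n := 5) (by norm_num) h9 h5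
  by_cases htop : C = T
  · refine Subgroup.mem_centralizer_iff.2 fun c hc => ?_
    exact Subgroup.mem_centralizer_singleton_iff.1 (htop.ge hc).2
  exfalso
  set D := C.subgroupOf T with hD
  have hDtop : D ≠ ⊤ := fun h => htop (le_antisymm inf_le_left (Subgroup.subgroupOf_eq_top.1 h))
  have hDc : Nat.card D = Nat.card C :=
    Nat.card_congr (Subgroup.subgroupOfEquivOfLe (inf_le_left : C ≤ T)).toEquiv
  obtain ⟨k, hk⟩ := h45
  have hmul := D.card_mul_index
  rw [hDc, hk, hT, mul_assoc] at hmul
  have hk8 : k * D.index = 8 := by omega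
  have hd : D.index ∣ 8 := Dvd.intro_left k hk8
  have hfac := SmallOrder.card_dvd_factorial_index hDtop
  rw [hT] at hfac
  have hi : D.index = 8 := by
    have : ∀ d ≤ 8, d ∣ 8 → 360 ∣ d.factorial → d = 8 := by decide +kernel
    exact this _ (Nat.le_of_dvd (by norm_num) hd) hd hfac
  have hD45 : Nat.card D = 45 := by
    rw [hDc, hk]
    rw [hi] at hk8
    omega
  obtain ⟨S⟩ : Nonempty (Sylow 5 D) := inferInstance
  have hS : Nat.card S = 5 := (SmallOrder.card_sylow_eq (k := 1) S (by rw [hD45]; norm_num)
    (by rw [hD45]; norm_num)).trans (pow_one 5)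
  have hn1 : Nat.card (Sylow 5 D) = 1 := by
    have h1 := SmallOrder.card_sylow_mem_filter S hS (n := 9) (by rw [hD45]) (by norm_num)
    rw [show (Nat.divisors 9).filter (fun d => d % 5 = 1) = {1} by decide, Finset.mem_singleton] at h1
    exact h1
  haveI : Subsingleton (Sylow 5 D) := (Nat.card_eq_one_iff_unique.1 hn1).1
  have hSn : (S : Subgroup D).Normal := Sylow.normal_of_subsingleton S
  obtain ⟨P, hP⟩ := (S.isPGroup'.map D.subtype).exists_le_sylow
  have hPc : Nat.card P = 5 := (SmallOrder.card_sylow_eq (k := 1) P (by rw [hT]; norm_num)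
    (by rw [hT]; norm_num)).trans (pow_one 5)
  have hSP : (S : Subgroup D).map D.subtype = (P : Subgroup T) := Subgroup.eq_of_le_of_card_ge hP (by
    rw [Subgroup.card_subtype]
    exact hPc.le.trans hS.ge)
  have hDN : D ≤ Subgroup.normalizer ((P : Subgroup T) : Set T) := by
    have h1 := Subgroup.le_normalizer_map (H := (S : Subgroup D)) D.subtype
    rw [hSP, Subgroup.normalizer_eq_top, ← MonoidHom.range_eq_map, Subgroup.range_subtype] at h1
    exact h1
  have hN := SmallOrder.card_normalizer_mul_card_sylow P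
  change Nat.card (Subgroup.normalizer ((P : Subgroup T) : Set T)) * _ = _ at hN
  obtain ⟨l, hl⟩ := hD45 ▸ Subgroup.card_dvd_of_le hDN
  rw [hl, hT, mul_assoc] at hN
  have h8 : l * Nat.card (Sylow 5 T) = 8 := by omega
  have hne := SmallOrder.card_sylow_ne_one P (by rw [hPc]; norm_num) (by rw [hPc, hT]; norm_num)
  have hmod : Nat.card (Sylow 5 T) % 5 = 1 := by
    have := card_sylow_modEq_one 5 T
    rwa [Nat.ModEq] at this
  have hd8 : Nat.card (Sylow 5 T) ∣ 8 := Dvd.intro_left l h8
  have : ∀ d ≤ 8, d ∣ 8 → d % 5 = 1 → d = 1 := by decide +kernel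
  exact hne (this _ (Nat.le_of_dvd (by norm_num) hd8) hd8 hmod)

end Action

end CfsgLib.DegreeGraphSmall
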