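import Cfsg.Agent.Lib.DegreeGraphSmall.Composite
import Cfsg.Agent.Lib.SmallOrders.Order504
import Cfsg.Agent.Lib.SmallOrders.Order4080
import Cfsg.Agent.Lib.SmallOrders.Order2448
import Cfsg.Agent.Lib.SmallOrders.Order5616Unique
import Cfsg.Agent.Lib.SmallSimple.GL4A7
import Cfsg.Agent.Lib.SmallSimple.Order2520
import Cfsg.Agent.S0497
import Cfsg.Agent.S0498
import Cfsg.Agent.S0984
import Cfsg.Agent.S1021
import Cfsg.Agent.S0254

/-!
# Degree primes of the simple groups of order less than 6000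
-/

namespace CfsgLib.DegreeGraphSmall

open Cfsg CfsgLib.CharTheory CfsgLib.Blocks
open scoped Matrix

set_option autoImplicit false
set_option linter.unusedVariables false
set_option linter.style.haveILetI false
set_option linter.unusedSectionVars false

universe u v w

variable {X : Type u} [Group X] [Finite X] [IsSimpleGroup X] {Y : Type v} [Group Y] [Finite Y] [IsSimpleGroup Y]

theorem card_galoisField (p n : ℕ) [Fact p.Prime] (hn : n ≠ 0) [Fintype (GaloisField p n)] :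
    Fintype.card (GaloisField p n) = p ^ n := by
  rw [← Nat.card_eq_fintype_card, GaloisField.card p n hn]

/-- There is one simple group of each order below 6000. -/
theorem iso_of_card {n : ℕ} (hn : n ∈ smallOrders) (hX : Nat.card X = n) (hY : Nat.card Y = n) :
    Nonempty (X ≃* Y) := by
  haveI : Fact (Nat.Prime 2) := ⟨Nat.prime_two⟩
  haveI : Fact (Nat.Prime 7) := ⟨by norm_num⟩
  haveI : Fact (Nat.Prime 11) := ⟨by norm_num⟩
  haveI : Fact (Nat.Prime 13) := ⟨by norm_num⟩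
  haveI : Fact (Nat.Prime 17) := ⟨by norm_num⟩
  haveI : Fact (Nat.Prime 19) := ⟨by norm_num⟩
  letI : Fintype (GaloisField 2 3) := Fintype.ofFinite _
  letI : Fintype (GaloisField 2 4) := Fintype.ofFinite _
  simp only [smallOrders, List.mem_cons, List.not_mem_nil, or_false] at hn
  rcases hn with rfl | rfl | rfl | rfl | rfl | rfl | rfl | rfl | rfl | rfl | rfl
  · obtain ⟨e⟩ := Cfsg.Agent.S0494.result hX
    obtain ⟨e'⟩ := Cfsg.Agent.S0494.result hY
    exact ⟨e.trans e'.symm⟩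
  · obtain ⟨e⟩ := Cfsg.Agent.S0495.result hX (F := ZMod 7) (ZMod.card 7)
    obtain ⟨e'⟩ := Cfsg.Agent.S0495.result hY (F := ZMod 7) (ZMod.card 7)
    exact ⟨e.trans e'.symm⟩
  · obtain ⟨e⟩ := Cfsg.Agent.S0497.result hX
    obtain ⟨e'⟩ := Cfsg.Agent.S0497.result hY
    exact ⟨e.trans e'.symm⟩
  · haveI := Fintype.ofFinite X
    haveI := Fintype.ofFinite Y
    obtain ⟨e⟩ := SmallOrders.Order504.nonempty_mulEquiv_psl hX (card_galoisField 2 3 (by norm_num))
    obtain ⟨e'⟩ := SmallOrders.Order504.nonempty_mulEquiv_psl hY (card_galoisField 2 3 (by norm_num))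
    exact ⟨e.trans e'.symm⟩
  · obtain ⟨e⟩ := Cfsg.Agent.S0498.result 11 (Or.inl rfl) (by rw [hX]; norm_num) (F := ZMod 11) (ZMod.card 11)
    obtain ⟨e'⟩ := Cfsg.Agent.S0498.result 11 (Or.inl rfl) (by rw [hY]; norm_num) (F := ZMod 11) (ZMod.card 11)
    exact ⟨e.trans e'.symm⟩
  · obtain ⟨e⟩ := Cfsg.Agent.S0498.result 13 (Or.inr rfl) (by rw [hX]; norm_num) (F := ZMod 13) (ZMod.card 13)
    obtain ⟨e'⟩ := Cfsg.Agent.S0498.result 13 (Or.inr rfl) (by rw [hY]; norm_num) (F := ZMod 13) (ZMod.card 13)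
    exact ⟨e.trans e'.symm⟩
  · haveI := Fintype.ofFinite X
    haveI := Fintype.ofFinite Y
    obtain ⟨e⟩ := SmallOrders.Order2448.nonempty_mulEquiv_psl hX (F := ZMod 17) (ZMod.card 17)
    obtain ⟨e'⟩ := SmallOrders.Order2448.nonempty_mulEquiv_psl hY (F := ZMod 17) (ZMod.card 17)
    exact ⟨e.trans e'.symm⟩
  · obtain ⟨e⟩ := Cfsg.Agent.S0984.result hX
    obtain ⟨e'⟩ := Cfsg.Agent.S0984.result hY
    exact ⟨e.trans e'.symm⟩
  · obtain ⟨e⟩ := Cfsg.Agent.S1021.result hX (F := ZMod 19) (ZMod.card 19)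
    obtain ⟨e'⟩ := Cfsg.Agent.S1021.result hY (F := ZMod 19) (ZMod.card 19)
    exact ⟨e.trans e'.symm⟩
  · haveI := Fintype.ofFinite X
    haveI := Fintype.ofFinite Y
    obtain ⟨e⟩ := SmallOrders.Order4080.nonempty_mulEquiv_psl hX (card_galoisField 2 4 (by norm_num))
    obtain ⟨e'⟩ := SmallOrders.Order4080.nonempty_mulEquiv_psl hY (card_galoisField 2 4 (by norm_num))
    exact ⟨e.trans e'.symm⟩
  · haveI := Fintype.ofFinite X
    exact SmallOrders.Order5616.unique5616 hX hY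

/-- Seven is a degree prime of the alternating group of degree seven. -/
theorem seven_mem (hX : Nat.card X = 2520) : 7 ∈ degreePrimes X := by
  classical
  obtain ⟨H, eH⟩ := GL4A7.exists_A7
  obtain ⟨e'⟩ := eH
  obtain ⟨e⟩ := Cfsg.Agent.S0984.result hX
  rw [degreePrimes_mulEquiv (e.trans e'.symm)]
  let V := {x : Fin 4 → ZMod 2 // x ≠ 0}
  have hne : ∀ (g : H) (x : V),
      ((g : GL4A7.GV) : Matrix (Fin 4) (Fin 4) (ZMod 2)) *ᵥ x.1 ≠ 0 := fun g x h => x.2 (by
    have := congrArg (fun y => (((g : GL4A7.GV)⁻¹ : GL4A7.GV) : Matrix (Fin 4) (Fin 4) (ZMod 2)) *ᵥ y) h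
    simpa [Matrix.mulVec_mulVec, ← Units.val_mul] using this)
  letI : MulAction H V :=
    { smul := fun g x => ⟨((g : GL4A7.GV) : Matrix (Fin 4) (Fin 4) (ZMod 2)) *ᵥ x.1, hne g x⟩
      one_smul := fun x => Subtype.ext (by
        show ((1 : GL4A7.GV) : Matrix (Fin 4) (Fin 4) (ZMod 2)) *ᵥ x.1 = x.1
        rw [Units.val_one, Matrix.one_mulVec])
      mul_smul := fun g g' x => Subtype.ext (by
        show (((g : GL4A7.GV) * (g' : GL4A7.GV) : GL4A7.GV) : Matrix (Fin 4) (Fin 4) (ZMod 2)) *ᵥ x.1 =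
          ((g : GL4A7.GV) : Matrix (Fin 4) (Fin 4) (ZMod 2)) *ᵥ
            (((g' : GL4A7.GV) : Matrix (Fin 4) (Fin 4) (ZMod 2)) *ᵥ x.1)
        rw [Units.val_mul, Matrix.mulVec_mulVec]) }
  have hV : Nat.card V = 14 + 1 := by
    rw [Nat.card_eq_fintype_card]
    decide
  have h2 : MulAction.IsMultiplyPretransitive H V 2 := by
    rw [MulAction.is_two_pretransitive_iff]
    intro a b c d hab hcd
    obtain ⟨g, hg, h1, h2⟩ := GL4A7.two_transitive H ⟨e'⟩ a.1 b.1 c.1 d.1 a.2 b.2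
      (fun h => hab (Subtype.ext h)) c.2 d.2 (fun h => hcd (Subtype.ext h))
    exact ⟨⟨g, hg⟩, Subtype.ext h1, Subtype.ext h2⟩
  exact ⟨by norm_num, 14, mem_charDegrees_of_two_transitive V (by norm_num) hV h2, by norm_num⟩

/-- Five is a degree prime of the simple group of order 2520. -/
theorem five_mem (hX : Nat.card X = 2520) : 5 ∈ degreePrimes X := by
  classical
  haveI := Fintype.ofFinite X
  haveI : Fact (Nat.Prime 5) := ⟨by norm_num⟩
  haveI : Fact (Nat.Prime 7) := ⟨by norm_num⟩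
  by_contra hno
  obtain ⟨P, hP, hC, hN⟩ := CfsgLib.Order2520.prime_data hX (q := 5) (by norm_num) (by norm_num) (by norm_num)
    (CfsgLib.Order2520.five_check hX) rfl
  obtain ⟨x₀, hx₀⟩ := exists_prime_orderOf_dvd_card' (G := (P : Subgroup X)) 5 (dvd_of_eq hP.symm)
  set x : X := (x₀ : X) with hx
  have hxo : orderOf x = 5 := by rw [hx, Subgroup.orderOf_coe, hx₀]
  have hzP : Subgroup.zpowers x = (P : Subgroup X) :=
    Subgroup.eq_of_le_of_card_ge (Subgroup.zpowers_le.2 x₀.2) (by rw [Nat.card_zpowers, hxo]; exact hP.le)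
  have hCx : Nat.card (Subgroup.centralizer ({x} : Set X)) = 5 := by
    rw [← hC, ← hzP, Subgroup.zpowers_eq_closure, Subgroup.centralizer_closure]
  have hconj : ∀ i : ℕ, ¬ 5 ∣ i → IsConj x (x ^ i) := fun i hi =>
    isConj_pow_of_card_normalizer (by norm_num) hxo hCx (by rw [hzP, hN]) i hi
  have hval : ∀ χ : IrrCharacter X, 1 ≤ Complex.normSq ((χ : X → ℂ) x) := by
    intro χ
    obtain ⟨v, hv, t, ht⟩ := exists_int_value (by norm_num) hxo hconj (isCharacter_of_irr χ.2)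
    rw [hv, Complex.normSq_intCast]
    have hv0 : v ≠ 0 := fun h0 => hno ⟨by norm_num, _, ⟨χ, rfl⟩, by
      have : ((5 : ℕ) : ℤ) ∣ (charDegree (χ : X → ℂ) : ℤ) := ⟨-t, by rw [h0] at ht; linarith⟩
      exact_mod_cast this⟩
    have h1 : (1 : ℤ) ≤ v * v := by
      rcases lt_or_gt_of_ne hv0 with h | h <;> nlinarith
    exact_mod_cast h1
  have hsum : ∑ χ : IrrCharacter X, Complex.normSq ((χ : X → ℂ) x) = 5 := by
    have h := sum_irr_mul_conj x x
    rw [if_pos (IsConj.refl x), hCx] at h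
    simp only [Complex.mul_conj] at h
    exact_mod_cast h
  have hk : (Nat.card (IrrCharacter X) : ℝ) ≤ 5 := by
    rw [Nat.card_eq_fintype_card, ← hsum]
    calc (Fintype.card (IrrCharacter X) : ℝ) = ∑ _χ : IrrCharacter X, (1 : ℝ) := by simp
      _ ≤ _ := Finset.sum_le_sum fun χ _ => hval χ
  -- six different orders of elements
  haveI : Fact (Nat.Prime 2) := ⟨Nat.prime_two⟩
  haveI : Fact (Nat.Prime 3) := ⟨Nat.prime_three⟩
  obtain ⟨g2, h2⟩ := exists_prime_orderOf_dvd_card' (G := X) 2 (by rw [hX]; norm_num)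
  obtain ⟨g3, h3⟩ := exists_prime_orderOf_dvd_card' (G := X) 3 (by rw [hX]; norm_num)
  obtain ⟨g4, h4⟩ := CfsgLib.Order2520.exists_four hX
  obtain ⟨g7, h7⟩ := exists_prime_orderOf_dvd_card' (G := X) 7 (by rw [hX]; norm_num)
  let f : Fin 6 → ConjClasses X := fun i => ConjClasses.mk (![1, g2, g3, g4, x, g7] i)
  have hf : Function.Injective f := by
    intro i j e
    obtain ⟨c, hc⟩ := isConj_iff.1 (ConjClasses.mk_eq_mk_iff_isConj.1 e)
    have ho := congrArg orderOf hc
    rw [show c * (![1, g2, g3, g4, x, g7] i) * c⁻¹ = MulAut.conj c (![1, g2, g3, g4, x, g7] i) from rfl,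
      MulEquiv.orderOf_eq] at ho
    have key : ∀ k : Fin 6, orderOf (![1, g2, g3, g4, x, g7] k) = ![1, 2, 3, 4, 5, 7] k := by
      intro k
      fin_cases k
      exacts [orderOf_one, h2, h3, h4, hxo, h7]
    rw [key, key] at ho
    exact (by decide : Function.Injective (![1, 2, 3, 4, 5, 7] : Fin 6 → ℕ)) ho
  have h6 := Nat.card_le_card_of_injective f hf
  rw [← card_irr_eq_card_conjClasses, Nat.card_eq_fintype_card (α := Fin 6), Fintype.card_fin] at h6
  have h6' : (6 : ℝ) ≤ (Nat.card (IrrCharacter X) : ℝ) := by exact_mod_cast h6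
  linarith

/-- Three and thirteen are degree primes of the simple group of order 5616. -/
theorem mem_5616 (hX : Nat.card X = 5616) : 3 ∈ degreePrimes X ∧ 13 ∈ degreePrimes X := by
  classical
  haveI := Fintype.ofFinite X
  obtain ⟨D⟩ := SmallOrders.Order5616.exists_charData hX
  refine ⟨⟨Nat.prime_three, 12, ⟨D.a, ?_⟩, by norm_num⟩, ?_⟩
  · have := D.deg_a
    rw [← irr_charDegree_cast] at this
    exact_mod_cast this
  · obtain ⟨χ, hχ⟩ : D.R.Nonempty := by
      by_contra h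
      rw [Finset.not_nonempty_iff_eq_empty] at h
      have := D.sum_k hX
      rw [h, Finset.sum_empty] at this
      norm_num at this
    exact ⟨by norm_num, _, ⟨χ, rfl⟩, D.R_deg hχ⟩

/-- The facts used about the degree graphs. -/
theorem facts {n : ℕ} (hn : n ∈ smallOrders) (hX : Nat.card X = n) :
    (∀ r ∈ (match n with
      | 60 => [5] | 168 => [7, 2] | 360 => [5] | 504 => [7, 2] | 660 => [11] | 1092 => [13]
      | 2448 => [17] | 2520 => [5, 7] | 3420 => [19] | 4080 => [17] | 5616 => [13, 3] | _ => []),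
      r ∈ degreePrimes X) ∧
    (n = 360 → ¬ (degreeGraph X).Adj 2 3 ∧ (degreeGraph X).Adj 2 5) ∧
    (n = 504 → ¬ (degreeGraph X).Adj 2 3) := by
  haveI : Fact (Nat.Prime 2) := ⟨Nat.prime_two⟩
  haveI : Fact (Nat.Prime 3) := ⟨Nat.prime_three⟩
  haveI : Fact (Nat.Prime 7) := ⟨by norm_num⟩
  haveI : Fact (Nat.Prime 11) := ⟨by norm_num⟩
  haveI : Fact (Nat.Prime 13) := ⟨by norm_num⟩
  haveI : Fact (Nat.Prime 17) := ⟨by norm_num⟩
  haveI : Fact (Nat.Prime 19) := ⟨by norm_num⟩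
  haveI := Fintype.ofFinite X
  letI : Fintype (GaloisField 2 2) := Fintype.ofFinite _
  letI : Fintype (GaloisField 2 3) := Fintype.ofFinite _
  letI : Fintype (GaloisField 2 4) := Fintype.ofFinite _
  letI : Fintype (GaloisField 3 2) := Fintype.ofFinite _
  simp only [smallOrders, List.mem_cons, List.not_mem_nil, or_false] at hn
  rcases hn with rfl | rfl | rfl | rfl | rfl | rfl | rfl | rfl | rfl | rfl | rfl <;>
    simp only [List.mem_cons, List.not_mem_nil, or_false, forall_eq_or_imp, forall_eq, Nat.reduceEqDiff,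
      IsEmpty.forall_iff, and_true, forall_true_left]
  · obtain ⟨e⟩ := Cfsg.Agent.S0494.result hX
    obtain ⟨e'⟩ := Cfsg.Agent.S0252.result (card_galoisField 2 2 (by norm_num))
    obtain ⟨h, -⟩ := Cfsg.Agent.S4812.result (GaloisField 2 2) 4 (card_galoisField 2 2 (by norm_num)) le_rfl
      (Or.inl ⟨e.trans e'.symm⟩)
    rw [h]; norm_num
  · have hiso := Cfsg.Agent.S0495.result hX (F := ZMod 7) (ZMod.card 7)
    obtain ⟨h, -⟩ := Cfsg.Agent.S4774.result (ZMod 7) 7 (by norm_num) 7 (ZMod.card 7) (by norm_num) (Or.inl hiso)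
    rw [h]; norm_num
  · obtain ⟨e⟩ := Cfsg.Agent.S0497.result hX
    obtain ⟨e'⟩ := Cfsg.Agent.S0254.result (card_galoisField 3 2 (by norm_num))
    obtain ⟨h, ha⟩ := Cfsg.Agent.S4774.result (GaloisField 3 2) 3 (by norm_num) 9
      (card_galoisField 3 2 (by norm_num)) (by norm_num) (Or.inl ⟨e.trans e'.symm⟩)
    rw [h, ha, ha]; norm_num
  · have hiso := SmallOrders.Order504.nonempty_mulEquiv_psl hX (card_galoisField 2 3 (by norm_num))
    obtain ⟨h, ha⟩ := Cfsg.Agent.S4812.result (GaloisField 2 3) 8 (card_galoisField 2 3 (by norm_num))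
      (by norm_num) (Or.inl hiso)
    rw [h, ha]; norm_num
  · have hiso := Cfsg.Agent.S0498.result 11 (Or.inl rfl) (by rw [hX]; norm_num) (F := ZMod 11) (ZMod.card 11)
    obtain ⟨h, -⟩ := Cfsg.Agent.S4774.result (ZMod 11) 11 (by norm_num) 11 (ZMod.card 11) (by norm_num) (Or.inl hiso)
    rw [h]; norm_num
  · have hiso := Cfsg.Agent.S0498.result 13 (Or.inr rfl) (by rw [hX]; norm_num) (F := ZMod 13) (ZMod.card 13)
    obtain ⟨h, -⟩ := Cfsg.Agent.S4774.result (ZMod 13) 13 (by norm_num) 13 (ZMod.card 13) (by norm_num) (Or.inl hiso)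
    rw [h]; norm_num
  · have hiso := SmallOrders.Order2448.nonempty_mulEquiv_psl hX (F := ZMod 17) (ZMod.card 17)
    obtain ⟨h, -⟩ := Cfsg.Agent.S4774.result (ZMod 17) 17 (by norm_num) 17 (ZMod.card 17) (by norm_num) (Or.inl hiso)
    rw [h]; norm_num
  · exact ⟨five_mem hX, seven_mem hX⟩
  · have hiso := Cfsg.Agent.S1021.result hX (F := ZMod 19) (ZMod.card 19)
    obtain ⟨h, -⟩ := Cfsg.Agent.S4774.result (ZMod 19) 19 (by norm_num) 19 (ZMod.card 19) (by norm_num) (Or.inl hiso)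
    rw [h]; norm_num
  · have hiso := SmallOrders.Order4080.nonempty_mulEquiv_psl hX (card_galoisField 2 4 (by norm_num))
    obtain ⟨h, -⟩ := Cfsg.Agent.S4812.result (GaloisField 2 4) 16 (card_galoisField 2 4 (by norm_num))
      (by norm_num) (Or.inl hiso)
    rw [h]; norm_num
  · exact ⟨(mem_5616 hX).2, (mem_5616 hX).1⟩

end CfsgLib.DegreeGraphSmall
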